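import Cfsg.Agent.Ree.TwentySeven.Section
import Cfsg.Agent.Ree.Twist.Main

/-!
The case of 27 elements, without hypotheses.
-/

set_option autoImplicit false

namespace Cfsg.Lib.Ree.Field

universe u

/-- `q = 27`: no field automorphisms. -/
theorem twentySevenSpec : TwentySevenSpec.{u} := twentySevenSpec_of twistSpec

end Cfsg.Lib.Ree.Field
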