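import Cfsg.Agent.Ree.Twist.Table
import Cfsg.Agent.Ree.Twist.Setting
import Cfsg.Agent.Ree.Section.Coords
import Cfsg.Agent.Ree.Transfer.Frame
import Cfsg.Agent.Ree.PSL.Group

/-!
The count of pairs of involutions against the functions of the principal block of `E`, the number of
involutions of `E` over a field with 27 elements, and the index.
-/

set_option autoImplicit false
set_option linter.style.haveILetI false
set_option linter.unusedSectionVars false

namespace Cfsg.Lib.Ree.TwentySeven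

open Cfsg Cfsg.Lib.Chars Cfsg.Lib.Blocks Cfsg.Lib.Ree.Twist
open scoped ComplexConjugate

universe u v

section table

variable {X : Type u} [Group X] [Fintype X]

open scoped _root_.Classical in
/-- The count against a difference of two members depends only on their degrees. -/
theorem inner_pairCount {M : Ideal AlgInt} (T : KTable X M) {a : X} (ha : orderOf a = 2)
    (hone : ∀ s : X, orderOf s = 2 → IsConj a s) (i j : Fin 4) :
    classInner pairCount (T.ps i - T.ps j) =
      2 * ((Nat.card {x : X // IsConj a x} : ℂ)) ^ 2 / (Nat.card X : ℂ) * ((T.ps i 1)⁻¹ - (T.ps j 1)⁻¹) := by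
  set k : ℂ := (Nat.card {x : X // IsConj a x} : ℂ) with hk
  set c : IrrCharacter X → ℂ := fun θ =>
    2 * k ^ 2 / (Nat.card X : ℂ) * (conj ((θ : X → ℂ) a) ^ 2 / conj ((θ : X → ℂ) 1)) with hc
  have hord : ∀ {s : X}, orderOf s = 2 → s * s = 1 := fun h => by rw [← pow_two, ← h, pow_orderOf_eq_one]
  have hinv : ∀ s : X, IsConj a s → orderOf s = 2 := fun s hs => by
    obtain ⟨g, hg⟩ := isConj_iff.1 hs
    rw [← hg, ← MulAut.conj_apply, MulEquiv.orderOf_eq, ha]
  have hpc : ∀ y : X, Odd (orderOf y) → pairCount y = ∑ θ : IrrCharacter X, c θ * (θ : X → ℂ) y := by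
    intro y hy
    have hcard : Nat.card {w : X // orderOf w = 2 ∧ (w * y) * (w * y) = 1} =
        Nat.card {p : X × X // IsConj a p.1 ∧ IsConj a p.2 ∧ p.1 * p.2 = y} := by
      refine Nat.card_congr
        { toFun := fun w => ⟨(w.1, w.1 * y), hone _ w.2.1, hone _ (orderOf_eq_prime (by rw [pow_two]; exact w.2.2)
            fun e => ?_), by rw [← mul_assoc, hord w.2.1, one_mul]⟩
          invFun := fun p => ⟨p.1.1, hinv _ p.2.1, ?_⟩
          left_inv := fun w => rfl
          right_inv := fun p => Subtype.ext (Prod.ext rfl ?_) }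
      · have hyw : y = w.1 := calc
          y = w.1 * w.1 * y := by rw [hord w.2.1, one_mul]
          _ = w.1 := by simp only at e; rw [mul_assoc, e, mul_one]
        exact absurd ((congrArg orderOf hyw).trans w.2.1 ▸ hy : Odd 2) (by decide)
      · have hp2 : p.1.1 * y = p.1.2 := calc
          p.1.1 * y = p.1.1 * (p.1.1 * p.1.2) := congrArg _ p.2.2.2.symm
          _ = p.1.2 := by rw [← mul_assoc, hord (hinv _ p.2.1), one_mul]
        rw [hp2, hord (hinv _ p.2.2.1)]
      · calc
          p.1.1 * y = p.1.1 * (p.1.1 * p.1.2) := congrArg _ p.2.2.2.symm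
          _ = p.1.2 := by rw [← mul_assoc, hord (hinv _ p.2.1), one_mul]
    have hreal : pairCount y = conj (pairCount y) := by
      rw [pairCount, map_mul, map_ofNat, map_natCast]
    rw [hreal, pairCount, hcard, class_mult_formula, ← hk]
    simp only [map_mul, map_ofNat, map_div₀, map_sum, map_natCast, Complex.conj_conj, Finset.mul_sum, hc]
    refine Finset.sum_congr rfl fun θ _ => ?_
    rw [hk, map_natCast]
    ring
  have hps : ∀ l, classInner (∑ θ : IrrCharacter X, c θ • (θ : X → ℂ)) (T.ps l) =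
      2 * k ^ 2 / (Nat.card X : ℂ) * (T.ps l 1)⁻¹ := by
    intro l
    rw [classInner_sum_left, Finset.sum_eq_single (T.mem l)]
    · have hsq : (T.sg l : ℂ) * (T.sg l : ℂ) = 1 := by exact_mod_cast T.sg_sq l
      have h2 : 2 ∣ orderOf a := dvd_of_eq ha.symm
      simp only [KTable.ps, classInner_smul_left, classInner_smul_right, classInner_irrCharacter, if_true,
        map_intCast, Pi.smul_apply, smul_eq_mul, hc, T.even l a h2]
      rw [irr_apply_one_eq_deg, map_natCast, mul_inv, inv_eq_of_mul_eq_one_right hsq]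
      linear_combination (2 * k ^ 2 / (Nat.card X : ℂ) * (T.sg l : ℂ) * (deg (T.mem l : X → ℂ) : ℂ)⁻¹) * hsq
    · intro θ _ hne
      rw [classInner_smul_left, KTable.ps, classInner_smul_right, classInner_irrCharacter, if_neg hne]
      simp
    · exact fun h => absurd (Finset.mem_univ _) h
  rw [mul_sub, ← hps i, ← hps j, ← classInner_sub_right, classInner_def, classInner_def]
  congr 1
  refine Finset.sum_congr rfl fun y _ => ?_
  by_cases hy : Odd (orderOf y)
  · rw [hpc y hy, Finset.sum_apply]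
    simp only [Pi.smul_apply, smul_eq_mul]
  · rw [Pi.sub_apply, T.ps_even i hy, T.ps_even j hy, sub_self, map_zero, mul_zero, mul_zero]

end table

variable {G : Type u} [Group G] [Fintype G] {t : G} {E E₀ : Subgroup G} [Fintype E] {F : Type v} [Field F]
  [Fintype F] (S : Twist.Setting t E E₀ F)
include S

/-- The involutions of `E`: the order two class and, for 27 elements, its size. -/
theorem exists_invol (h27 : Fintype.card F = 27) : ∃ a : E, orderOf a = 2 ∧ (∀ s : E, orderOf s = 2 → IsConj a s) ∧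
    Nat.card {x : E // IsConj a x} = 351 := by
  classical
  obtain ⟨T, a, b, n, hy⟩ := AbCentMax.exists_sys S.hyp S.ab
  set e := S.hyp.iso.some
  set a₀ : E₀ := ⟨a, hy.aE⟩
  have ha₀ : orderOf a₀ = 2 := by rw [← Subgroup.orderOf_coe]; exact hy.ao
  set A : E := ⟨a, S.hyp.le hy.aE⟩
  have hA : orderOf A = 2 := by rw [← Subgroup.orderOf_coe]; exact hy.ao
  have hconj : ∀ s : E, orderOf s = 2 → IsConj A s := fun s hs => by
    obtain ⟨-, g, hg, hgs⟩ := S.conj_E hA hs
    exact isConj_iff.2 ⟨⟨g, S.hyp.le hg⟩, Subtype.ext hgs⟩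
  refine ⟨A, hA, hconj, ?_⟩
  have hea : orderOf (e a₀) = 2 := (e.orderOf_eq a₀).trans ha₀
  obtain ⟨hP, hC, -⟩ := Cfsg.Lib.Ree.PSL.involution_centralizer (F := F) S.hyp.odd hea
  have hmul := Chars.card_isConj_mul (e a₀)
  rw [h27, if_neg (by norm_num)] at hC
  rw [h27] at hP
  rw [hC] at hmul
  have hcount : Nat.card {x : Matrix.ProjectiveSpecialLinearGroup (Fin 2) F // IsConj (e a₀) x} = 351 := by omega
  rw [← hcount]
  refine Nat.card_congr
    { toFun := fun x => ⟨e ⟨(x.1 : G), ?_⟩, ?_⟩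
      invFun := fun z => ⟨⟨((e.symm z.1 : E₀) : G), S.hyp.le (e.symm z.1).2⟩, ?_⟩
      left_inv := fun x => ?_
      right_inv := fun z => ?_ }
  · refine (S.conj_E (a := x.1) (b := x.1) ?_ ?_).1 <;>
    · obtain ⟨g, hg⟩ := isConj_iff.1 x.2
      rw [← hg, ← MulAut.conj_apply, MulEquiv.orderOf_eq, hA]
  · obtain ⟨g, hg⟩ := isConj_iff.1 x.2
    have hx2 : orderOf x.1 = 2 := by rw [← hg, ← MulAut.conj_apply, MulEquiv.orderOf_eq, hA]
    obtain ⟨-, h, hh, hhx⟩ := S.conj_E hA hx2
    refine isConj_iff.2 ⟨e ⟨h, hh⟩, ?_⟩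
    rw [← map_inv, ← map_mul, ← map_mul]
    exact congrArg e (Subtype.ext hhx)
  · obtain ⟨g, hg⟩ := isConj_iff.1 z.2
    refine isConj_iff.2 ⟨⟨((e.symm g : E₀) : G), S.hyp.le (e.symm g).2⟩, Subtype.ext ?_⟩
    rw [← hg, map_mul, map_mul, map_inv, e.symm_apply_apply]
    rfl
  · refine Subtype.ext (Subtype.ext ?_)
    simp
  · exact Subtype.ext (e.apply_symm_apply _)

/-- With 27 elements the quotient by `E₀` is abelian. -/
theorem comm_mem (h27 : Fintype.card F = 27) : ∀ a ∈ E, ∀ b ∈ E, a * b * a⁻¹ * b⁻¹ ∈ E₀ := by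
  haveI : Fact (Nat.Prime 3) := ⟨Nat.prime_three⟩
  intro a ha b hb
  haveI := S.normal_E₀
  have hd : E₀.relIndex E ∣ 3 := S.relIndex_dvd (p := 3) (by rw [h27]; norm_num)
  have hcomm : ∀ x y : ↥E ⧸ E₀.subgroupOf E, x * y = y * x := by
    rcases (Nat.dvd_prime Nat.prime_three).1 hd with h | h
    · intro x y
      haveI : Subsingleton (↥E ⧸ E₀.subgroupOf E) :=
        (Nat.card_eq_one_iff_unique.1 (by rw [← Subgroup.index_eq_card]; exact h)).1
      exact Subsingleton.elim _ _
    · haveI : IsCyclic (↥E ⧸ E₀.subgroupOf E) :=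
        isCyclic_of_prime_card (p := 3) (by rw [← Subgroup.index_eq_card]; exact h)
      exact fun x y => mul_comm' x y
  have h := hcomm (QuotientGroup.mk ⟨a, ha⟩) (QuotientGroup.mk ⟨b, hb⟩)
  have h1 : (⟨a, ha⟩ * ⟨b, hb⟩ * ⟨a, ha⟩⁻¹ * ⟨b, hb⟩⁻¹ : E) ∈ E₀.subgroupOf E := by
    rw [← QuotientGroup.eq_one_iff, QuotientGroup.mk_mul, QuotientGroup.mk_mul, QuotientGroup.mk_mul,
      QuotientGroup.mk_inv, QuotientGroup.mk_inv, h]
    group
  exact h1

end Cfsg.Lib.Ree.TwentySeven
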