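import Cfsg.Agent.Ree.TwentySeven.Main
import Cfsg.Agent.Ree.TwentySeven.Count
import Cfsg.Agent.Ree.Twist.Coords
import Cfsg.Agent.Ree.Field.Spec
import Cfsg.Agent.Blocks.SmallOrder.Basic

/-!
A group of Janko–Ree type over the field with 27 elements has `E = E₀`: the blocks over the twists of the
principal block of `E` all have a character of degree one, and there is only one such character.
-/

set_option autoImplicit false
set_option linter.style.haveILetI false
set_option linter.unusedSectionVars false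

namespace Cfsg.Lib.Ree.TwentySeven

open Cfsg Cfsg.Lib.Chars Cfsg.Lib.Blocks Cfsg.Lib.Ree.Twist
open scoped ComplexConjugate

universe u

variable {G : Type u} [Group G] [Fintype G] {t : G} {E E₀ : Subgroup G} [Fintype E] {F : Type} [Field F]
  [Fintype F] (S : Twist.Setting t E E₀ F)
include S

/-- An integral value at the involution is congruent to the degree modulo 8. -/
theorem congr_eight (χ : IrrCharacter G) {u : ℤ} (hu : (χ : G → ℂ) t = u) :
    (8 : ℤ) ∣ (deg (χ : G → ℂ) : ℤ) - u := by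
  classical
  obtain ⟨T, a, b, n, hy⟩ := AbCentMax.exists_sys S.hyp S.ab
  obtain ⟨-, hcard⟩ := AbCentMax.three_dvd S.hyp hy
  obtain ⟨m, hm⟩ := sum_subgroup_nat (T : Subgroup G) (isCharacter_of_irr χ.2)
  have hT : ∀ w, (w = 1 ∨ w = a ∨ w = b ∨ w = a * b) → w * w = 1 := by
    rintro w (rfl | rfl | rfl | rfl)
    · exact one_mul 1
    · rw [← pow_two, ← hy.ao, pow_orderOf_eq_one]
    · rw [← pow_two, ← hy.bo, pow_orderOf_eq_one]
    · rw [← pow_two, (hy.tcomm a hy.aT b hy.bT).mul_pow]
      nth_rw 1 [← hy.ao]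
      rw [pow_orderOf_eq_one, one_mul, ← hy.bo, pow_orderOf_eq_one]
  have hsq : ∀ x ∈ T, x * x = 1 := by
    intro x hx
    obtain ⟨w, hw, rfl | rfl⟩ := hy.cases x hx
    · exact hT _ hw
    · have hwE : Commute t w := by
        refine S.hyp.comm w (S.hyp.le ?_)
        rcases hw with rfl | rfl | rfl | rfl
        exacts [one_mem _, hy.aE, hy.bE, mul_mem hy.aE hy.bE]
      rw [← pow_two, hwE.mul_pow, pow_two, pow_two, S.tt, hT w hw, one_mul]
  have hval : ∀ x : (T : Subgroup G), (χ : G → ℂ) x = if x = 1 then (deg (χ : G → ℂ) : ℂ) else (u : ℂ) := by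
    intro x
    split_ifs with h
    · rw [h, OneMemClass.coe_one, irr_apply_one_eq_deg]
    · rw [← hu]
      exact classFunction_eq_of_isConj (isClassFunction_irr χ)
        (S.conj_all (orderOf_eq_prime (by rw [pow_two, hsq _ x.2]) fun e => h (Subtype.ext e))).symm
  rw [Finset.sum_congr rfl fun x _ => hval x, Finset.sum_ite, Finset.filter_eq', if_pos (Finset.mem_univ _),
    Finset.sum_singleton, Finset.sum_const, Finset.filter_ne', Finset.card_erase_of_mem (Finset.mem_univ _),
    Finset.card_univ, ← Nat.card_eq_fintype_card, hcard] at hm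
  refine ⟨(m : ℤ) - u, Int.cast_injective (α := ℂ) ?_⟩
  push_cast at hm ⊢
  rw [nsmul_eq_mul] at hm
  push_cast at hm
  linear_combination hm

/-- The degree divides the product of the index and the value. -/
theorem dvd_index_mul (χ : IrrCharacter G) {u : ℤ} (hu : (χ : G → ℂ) t = u) :
    (deg (χ : G → ℂ) : ℤ) ∣ ((Subgroup.centralizer ({t} : Set G)).index : ℤ) * u := by
  have h := isIntegral_centralChar_irr χ.2 t
  rw [card_isConj, irr_apply_one_eq_deg, hu] at h
  have hd : (deg (χ : G → ℂ) : ℚ) ≠ 0 := by exact_mod_cast (deg_irr_pos χ).ne'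
  obtain ⟨z, hz⟩ := int_of_isIntegral_rat
    (q := ((Subgroup.centralizer ({t} : Set G)).index : ℚ) * u / deg (χ : G → ℂ)) (by push_cast; exact h)
  rw [div_eq_iff hd] at hz
  exact ⟨z, by rw [mul_comm (deg (χ : G → ℂ) : ℤ)]; exact_mod_cast hz⟩

omit S

/-- The functions `x`, `al`, `be`. -/
def fn {M : Ideal AlgInt} (T : KTable E M) (a : ℕ) : E → ℂ :=
  T.ps 1 - T.ps (if a = 0 then 0 else if a = 1 then 2 else 3)

theorem special_conj {f : E → ℂ} (hf : IsSpecial f) : IsSpecial (fun y => conj (f y)) := by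
  obtain ⟨α, β, hα, hβ, e⟩ := hf.2.1
  exact ⟨fun a h => by simp only [hf.1 a h],
    ⟨_, _, Chars.IsCharacter.conjugate hα, Chars.IsCharacter.conjugate hβ, funext fun y => by simp [e]⟩,
    fun y hy => by simp [hf.2.2 y hy]⟩

include S

/-- The block over the twist by `μ`, as data of the arithmetic. -/
theorem exists_block (h27 : Fintype.card F = 27) {M : Ideal AlgInt} {T : KTable E M}
    (P : Field.TwistFacts t E E₀ F T) {μ : E →* ℂˣ} (hμ : ∀ y : E, (y : G) ∈ E₀ → μ y = 1) :
    ∃ (s : Finset (IrrCharacter G)) (n : ℕ → IrrCharacter G → ℤ),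
      (∀ a χ, coord t E χ (twist μ (fn T a)) = n a χ) ∧ (∀ χ, χ ∈ s ↔ ∃ a < 3, n a χ ≠ 0) ∧
      Block s n (fun χ => (deg (χ : G → ℂ) : ℤ)) ((Subgroup.centralizer ({t} : Set G)).index : ℤ) := by
  classical
  have hsp : ∀ a, IsSpecial (twist μ (fn T a)) := fun a => special_twist μ (T.special 1 _)
  choose n hn using fun a χ => S.coord_int (hsp a) χ
  obtain ⟨s, hs⟩ : ∃ s : Finset (IrrCharacter G), ∀ χ, χ ∈ s ↔ ∃ a < 3, n a χ ≠ 0 :=
    ⟨Finset.univ.filter fun χ => ∃ a < 3, n a χ ≠ 0, fun χ => by simp⟩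
  refine ⟨s, n, hn, hs, ?_⟩
  have hps1 : T.ps 1 1 = -27 ∧ T.ps 2 1 = 13 ∧ T.ps 3 1 = 13 ∧ T.ps 0 1 = 1 := by
    have hm : midVal (signedCard F) = -13 := by simp [midVal, signedCard, h27]
    have h0 : T.ps 0 1 = 1 := congrFun T.ps_zero 1
    have hr := T.regular 1 (by simp)
    rw [Fin.sum_univ_four] at hr
    change T.ps 0 1 + T.ps 1 1 + T.ps 2 1 + T.ps 3 1 = 0 at hr
    obtain ⟨hA, hB⟩ := P.mid
    rw [hm] at hA hB
    simp only [KTable.A, KTable.B, Pi.neg_apply, Int.cast_neg, Int.cast_ofNat] at hA hB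
    exact ⟨by linear_combination hr - h0 + hA + hB, by linear_combination -hA, by linear_combination -hB, h0⟩
  have hval : ∀ χ, (∃ a < 3, n a χ ≠ 0) → (χ : G → ℂ) t = ((wVal (n 0 χ) (n 1 χ) (n 2 χ) : ℤ) : ℂ) := by
    rintro χ ⟨a, ha, hne⟩
    have hne' : coord t E χ (twist μ (fn T a)) ≠ 0 := by rw [hn]; exact_mod_cast hne
    have h := ((P.sep μ hμ χ (by
      interval_cases a
      · exact Or.inl hne'
      · exact Or.inr (Or.inl hne')
      · exact Or.inr (Or.inr hne'))).1 1 (by simp))
    rw [sectVal, OneMemClass.coe_one, mul_one, map_one, Units.val_one, one_mul] at h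
    obtain ⟨hA, hB⟩ := P.mid
    have hm : midVal (signedCard F) = -13 := by simp [midVal, signedCard, h27]
    rw [h, hA, hB, hm, show twist μ T.x = twist μ (fn T 0) from rfl, show twist μ T.al = twist μ (fn T 1) from rfl,
      show twist μ T.be = twist μ (fn T 2) from rfl, hn, hn, hn, wVal]
    push_cast
    ring
  have hout : ∀ χ, χ ∉ s → ∀ a < 3, n a χ = 0 := fun χ hχ a ha => by
    by_contra h
    exact hχ ((hs χ).2 ⟨a, ha, h⟩)
  obtain ⟨A, hA2, hone, hcount⟩ := exists_invol S h27
  refine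
    { gram := ?_
      ne := fun χ _ => by exact_mod_cast (deg_irr_pos χ).ne'
      col := ?_
      congr := fun χ hχ => congr_eight S χ (hval χ ((hs χ).1 hχ))
      dvd := fun χ hχ => dvd_index_mul S χ (hval χ ((hs χ).1 hχ))
      count := ?_ }
  · intro a ha b hb
    apply Int.cast_injective (α := ℂ)
    have h := S.isometry (hsp a) (hsp b)
    simp only [hn, map_intCast, inner_twist] at h
    rw [← Finset.sum_subset (Finset.subset_univ _) fun χ _ hχ => by rw [hout χ hχ a ha]; simp] at h
    push_cast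
    rw [h, fn, fn, classInner_sub_left, classInner_sub_right, classInner_sub_right, T.inner_ps, T.inner_ps,
      T.inner_ps, T.inner_ps]
    interval_cases a <;> interval_cases b <;> norm_num [Fin.ext_iff]
  · intro a ha
    apply Int.cast_injective (α := ℂ)
    have h := S.odd_sum (hsp a) (g := 1) (by simp)
    simp only [hn, irr_apply_one_eq_deg] at h
    rw [← Finset.sum_subset (Finset.subset_univ _) fun χ _ hχ => by rw [hout χ hχ a ha]; simp] at h
    push_cast
    exact h
  · intro a ha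
    apply Rat.cast_injective (α := ℂ)
    have h := S.count (special_conj (hsp a))
    simp only [Complex.conj_conj, hn] at h
    rw [← Finset.sum_subset (Finset.subset_univ _) fun χ _ hχ => by rw [hout χ hχ a ha]; simp] at h
    have hpair : classInner pairCount (fun y => conj (twist μ (fn T a) y)) = conj (classInner pairCount (fn T a)) := by
      rw [classInner_def, classInner_def, map_mul, map_inv₀, map_natCast, map_sum]
      congr 1
      refine Finset.sum_congr rfl fun y _ => ?_
      rcases isEmpty_or_nonempty {w : E // orderOf w = 2 ∧ (w * y) * (w * y) = 1} with he | ⟨w, hw, hwy⟩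
      · simp [pairCount]
      · rw [pairCount, map_mul, map_mul, map_ofNat, map_natCast, twist]
        by_cases hy : (y : G) ∈ E₀
        · rw [hμ y hy, Units.val_one, one_mul, Complex.conj_conj]
        · by_cases hwy1 : w * y = 1
          · rw [eq_inv_of_mul_eq_one_right hwy1, Subgroup.coe_inv] at hy
            exact absurd (inv_mem (S.conj_E hw hw).1) hy
          · have hwy2 : orderOf (w * y) = 2 := orderOf_eq_prime (by rw [pow_two, hwy]) hwy1
            refine absurd ?_ hy
            have := mul_mem (inv_mem (S.conj_E hw hw).1) (S.conj_E hwy2 hwy2).1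
            simpa using this
    rw [hpair, fn, inner_pairCount T hA2 hone, hcount] at h
    have hC0 : (Nat.card (Subgroup.centralizer ({t} : Set G)) : ℂ) ≠ 0 := by exact_mod_cast Nat.card_pos.ne'
    have hE0 : (Nat.card E : ℂ) ≠ 0 := by exact_mod_cast Nat.card_pos.ne'
    have hi0 : ((Subgroup.centralizer ({t} : Set G)).index : ℂ) ≠ 0 := by
      exact_mod_cast Subgroup.index_ne_zero_of_finite
    have hCE : (Nat.card (Subgroup.centralizer ({t} : Set G)) : ℂ) = 2 * (Nat.card E : ℂ) := by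
      exact_mod_cast S.card_C
    have hG : (Nat.card G : ℂ) = (Subgroup.centralizer ({t} : Set G)).index *
        (Nat.card (Subgroup.centralizer ({t} : Set G)) : ℂ) := by
      rw [← Nat.cast_mul, Subgroup.index_mul_card]
    obtain ⟨p1, p2, p3, p0⟩ := hps1
    rw [hG, hCE] at h
    push_cast
    rw [Finset.sum_congr rfl fun χ hχ => show ((n a χ : ℂ) * ((wVal (n 0 χ) (n 1 χ) (n 2 χ) : ℤ) : ℂ) ^ 2) /
        ((deg (χ : G → ℂ) : ℕ) : ℂ) = (χ : G → ℂ) t ^ 2 * (n a χ : ℂ) / (χ : G → ℂ) 1 by
      rw [hval χ ((hs χ).1 hχ), irr_apply_one_eq_deg, mul_comm], h]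
    interval_cases a <;> simp [rhs, p0, p1, p2, p3, map_ofNat] <;> field_simp <;> ring

omit S in
/-- The target. -/
theorem no_field (hT : Field.TwistSpec.{u}) : Field.TwentySevenSpec.{u} := by
  intro G _ _ t E E₀ F _ _ J h27
  classical
  haveI : Fact (Nat.Prime 2) := ⟨Nat.prime_two⟩
  letI : Fintype G := Fintype.ofFinite G
  letI : Fintype E := Fintype.ofFinite E
  have S : Twist.Setting t E E₀ F :=
    ⟨J.simple, J.nab, fun P => ⟨⟨fun x y => Subtype.ext (J.ab P x x.2 y y.2)⟩⟩, J.hyp, J.mod, J.five⟩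
  by_contra hne
  obtain ⟨e, heE, he₀⟩ : ∃ e ∈ E, e ∉ E₀ := by
    by_contra h
    push Not at h
    exact hne (le_antisymm h J.hyp.le)
  have hab := comm_mem S h27
  obtain ⟨M, hM⟩ := Cfsg.Lib.Blocks.exists_isPModular (p := 2) Nat.prime_two
  obtain ⟨T, P⟩ := hT G t E E₀ F S hab M hM
  haveI := S.normal_E₀
  letI : CommGroup (↥E ⧸ E₀.subgroupOf E) :=
    { (inferInstance : Group (↥E ⧸ E₀.subgroupOf E)) with
      mul_comm := fun p q => by
        induction p using QuotientGroup.induction_on with | H x => ?_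
        induction q using QuotientGroup.induction_on with | H y => ?_
        rw [← QuotientGroup.mk_mul, ← QuotientGroup.mk_mul, QuotientGroup.eq]
        have := hab _ (inv_mem y.2) _ (inv_mem x.2)
        rw [Subgroup.mem_subgroupOf]
        simpa [mul_assoc] using this }
  obtain ⟨φ, hφ⟩ := CommGroup.exists_apply_ne_one_of_hasEnoughRootsOfUnity (↥E ⧸ E₀.subgroupOf E) ℂ
    (a := (QuotientGroup.mk (⟨e, heE⟩ : E) : ↥E ⧸ E₀.subgroupOf E)) (fun h => he₀ ((QuotientGroup.eq_one_iff (N := E₀.subgroupOf E) _).1 h))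
  set μ : E →* ℂˣ := φ.comp (QuotientGroup.mk' _)
  have hμ : ∀ y : E, (y : G) ∈ E₀ → μ y = 1 := fun y hy => by
    show φ (QuotientGroup.mk y) = 1
    rw [(QuotientGroup.eq_one_iff y).2 hy, map_one]
  have hμ1 : (1 : E →* ℂˣ) ≠ μ := fun h => hφ (DFunLike.congr_fun h.symm ⟨e, heE⟩)
  obtain ⟨s₁, n₁, hn₁, hs₁, B₁⟩ := exists_block S h27 P (μ := 1) fun _ _ => rfl
  have hone : ∀ f : E → ℂ, twist (1 : E →* ℂˣ) f = f := fun f => funext fun y => by simp [twist]
  set o : IrrCharacter G := Chars.principal G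
  have hprinc : ∀ a, coord t E o (twist (1 : E →* ℂˣ) (fn T a)) =
      (if (0 : Fin 4) = 1 then (1 : ℂ) else 0) -
        (if (0 : Fin 4) = (if a = 0 then (0 : Fin 4) else if a = 1 then 2 else 3) then (1 : ℂ) else 0) := by
    intro a
    rw [coord, show sectVal t E o = T.ps 0 by rw [T.ps_zero]; rfl, hone, fn, classInner_sub_right, T.inner_ps,
      T.inner_ps]
  have hx0 : n₁ 0 o = -1 := by
    have h := hprinc 0; rw [hn₁] at h; norm_num [Fin.ext_iff] at h; exact_mod_cast h
  have hx1 : n₁ 1 o = 0 := by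
    have h := hprinc 1; rw [hn₁] at h; norm_num [Fin.ext_iff] at h; exact_mod_cast h
  have hx2 : n₁ 2 o = 0 := by
    have h := hprinc 2; rw [hn₁] at h; norm_num [Fin.ext_iff] at h; exact_mod_cast h
  have hdo : deg (o : G → ℂ) = 1 := by simp [o, deg, Chars.principal]
  have hodd : Odd ((Subgroup.centralizer ({t} : Set G)).index : ℤ) := (Int.odd_coe_nat _).2 S.index_odd
  have hh := TwentySeven.principal B₁ (by exact_mod_cast Nat.pos_of_ne_zero Subgroup.index_ne_zero_of_finite) hodd
    (x := o) ((hs₁ o).2 ⟨0, by norm_num, by omega⟩) (by simp [hdo]) hx0 hx1 hx2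
  obtain ⟨s, n, hn, hs, B⟩ := exists_block S h27 P hμ
  obtain ⟨χ, hχ, hdeg⟩ := twisted B hh
  have hperf : commutator G = ⊤ := by
    haveI := J.simple
    refine (IsSimpleGroup.eq_bot_or_eq_top_of_normal (commutator G) inferInstance).resolve_left fun h => J.nab ?_
    exact ⟨⟨fun x y => (commutatorElement_eq_one_iff_mul_comm).1 (Subgroup.mem_bot.1 (h ▸ by
      rw [commutator_def]; exact Subgroup.commutator_mem_commutator (Subgroup.mem_top x) (Subgroup.mem_top y)))⟩⟩
  have hχo : χ = o := by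
    rw [Cfsg.Lib.Blocks.SmallOrder.eq_one_of_deg_one hperf (χ := χ) (by simpa using hdeg)]
    rfl
  subst hχo
  obtain ⟨a, ha, hna⟩ := (hs o).1 hχ
  have h := ((P.sep 1 (fun _ _ => rfl) o (Or.inl (show coord t E o (twist 1 (fn T 0)) ≠ 0 by
    rw [hn₁, hx0]; norm_num))).2 μ hμ hμ1.symm)
  have hna' : coord t E o (twist μ (fn T a)) ≠ 0 := by rw [hn]; exact_mod_cast hna
  interval_cases a
  exacts [hna' h.1, hna' h.2.1, hna' h.2.2]

end Cfsg.Lib.Ree.TwentySeven

namespace Cfsg.Lib.Ree.Field

universe u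

/-- `q = 27` has no field automorphism in the centralizer. -/
theorem twentySevenSpec_of (hT : TwistSpec.{u}) : TwentySevenSpec.{u} :=
  Cfsg.Lib.Ree.TwentySeven.no_field hT

end Cfsg.Lib.Ree.Field
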