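import Cfsg.Agent.Ree.TwentySeven.Tools

/-!
The search for the blocks with eight rows, one of them of degree one.
-/

set_option autoImplicit false
set_option maxRecDepth 20000

namespace Cfsg.Lib.Ree.TwentySeven

/-- The two values of the common factor that are left. -/
def goodH (h : ℤ) : Bool := h == 512487 || h == 403767

/-- A candidate is impossible or gives one of the two values. -/
def candOk (t n : ℤ) : Bool :=
  !(1061424 * (n + 1) % t == 0) || (!(219024 * (n + 1) % (t + 160) == 0) ||
    (!(351 * (t + 1456) % n == 0) ||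
      (!isSq (n * n + 2916 * (n + 1) + 4 * (1061424 * (n + 1) / t)) ||
        (!isSq (n * n + 676 * (n + 1) + 4 * (219024 * (n + 1) / (t + 160))) ||
          goodH (351 * (t + 1456) / n * (n + 1))))))

theorem candOk_sound {t n u k k' S S' : ℤ} (ok : candOk t n = true) (ht : t ≠ 0) (ht' : t + 160 ≠ 0)
    (hn : n ≠ 0) (hk : t * k = 1061424 * (n + 1)) (hk' : (t + 160) * k' = 219024 * (n + 1))
    (hu : u * n = 351 * (t + 1456)) (hS : S * S = n * n + 2916 * (n + 1) + 4 * k)
    (hS' : S' * S' = n * n + 676 * (n + 1) + 4 * k') : u * (n + 1) = 512487 ∨ u * (n + 1) = 403767 := by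
  simp only [candOk, ← hk, ← hk', ← hu, Int.mul_emod_right, Int.mul_emod_left, Int.mul_ediv_cancel_left _ ht,
    Int.mul_ediv_cancel_left _ ht', Int.mul_ediv_cancel _ hn, isSq_of_eq hS, isSq_of_eq hS', beq_self_eq_true,
    Bool.not_true, Bool.false_or, goodH, Bool.or_eq_true, beq_iff_eq] at ok
  exact ok

/-- The divisors of 351. -/
def divsA : List ℕ := [1, 3, 9, 27, 13, 39, 117, 351]

/-- The divisors of 28431. -/
def divsB : List ℕ :=
  [1, 3, 9, 27, 81, 243, 729, 2187, 13, 39, 117, 351, 1053, 3159, 9477, 28431]

theorem mem_divsA {k : ℕ} (h : k ∣ 351) : k ∈ divsA := by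
  have e : (divList 18 351).all (fun k => divsA.contains k) = true := by decide +kernel
  exact List.contains_iff_mem.1 (List.all_eq_true.1 e k (mem_divList h (by norm_num) (by norm_num)))

theorem mem_divsB {k : ℕ} (h : k ∣ 28431) : k ∈ divsB := by
  have e : (divList 170 28431).all (fun k => divsB.contains k) = true := by decide +kernel
  exact List.contains_iff_mem.1 (List.all_eq_true.1 e k (mem_divList h (by norm_num) (by norm_num)))

/-- The candidates with small shifted `t`. -/
def nearOk (i : ℕ) : Bool :=
  let t' : ℤ := 4 * (i : ℤ) - 1498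
  (divList 38 ((t' + 1296).natAbs / 2)).all fun b => divsA.all fun a => candOk (t' - 160) (sixed (a * b))

theorem near_scan : (List.range 750).all nearOk = true := by decide +kernel

/-- One candidate with small `f`. -/
def farCand (f n : ℤ) : Bool :=
  let den := 2 * f * n + (f + 338) * (f + 338) - 676
  !(876096 * (n + 1) % den == 0) || candOk (876096 * (n + 1) / den - 160) n

/-- The candidates with small `f`. -/
def farOk (i : ℕ) : Bool :=
  let f : ℤ := 8 * (i : ℤ) - 928
  let D := divList 26 ((f + 338).natAbs / 2)
  divsB.all fun a => D.all fun b => D.all fun c => farCand f (sixed (a * (b * c)))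

theorem far_scan : (List.range 233).all farOk = true := by decide +kernel

end Cfsg.Lib.Ree.TwentySeven
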