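import Cfsg.Agent.Ree.TwentySeven.Kinds
import Cfsg.Agent.Ree.TwentySeven.FiveScan

/-!
Blocks with eight rows, one of them of degree one: the common factor is 512487 or 403767.
-/

set_option autoImplicit false
set_option maxRecDepth 20000

namespace Cfsg.Lib.Ree.TwentySeven

/-- The number with the small shifted parameter. -/
theorem near_case {t n u k k' S S' : ℤ} (ht4 : t % 4 = 2) (hn8 : n % 8 = 6) (hbd : |t + 160| < 1500)
    (hk : t * k = 1061424 * (n + 1)) (hk' : (t + 160) * k' = 219024 * (n + 1))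
    (hu : u * n = 351 * (t + 1456)) (hS : S * S = n * n + 2916 * (n + 1) + 4 * k)
    (hS' : S' * S' = n * n + 676 * (n + 1) + 4 * k') : u * (n + 1) = 512487 ∨ u * (n + 1) = 403767 := by
  obtain ⟨hb1, hb2⟩ := abs_lt.1 hbd
  obtain ⟨i, hi, hti⟩ : ∃ i : ℕ, i < 750 ∧ t + 160 = 4 * (i : ℤ) - 1498 :=
    ⟨((t + 160 + 1498) / 4).toNat, by omega, by omega⟩
  have hm := half_odd (show (t + 1456) % 4 = 2 by omega)
  have hnn := half_odd (show n % 4 = 2 by omega)
  have hdvd : n.natAbs / 2 ∣ 351 * ((t + 1456).natAbs / 2) := by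
    have h1 : u.natAbs * n.natAbs = 351 * (t + 1456).natAbs := by
      have := congrArg Int.natAbs hu
      simpa [Int.natAbs_mul] using this
    rw [hm.1, hnn.1] at h1
    exact Dvd.intro_left u.natAbs (by linarith)
  obtain ⟨a, b, ha, hb, hab⟩ := exists_dvd_and_dvd_of_dvd_mul hdvd
  have hsix : n = sixed (a * b) := eq_sixed hn8 (by rw [← hab]; exact hnn.1)
  have hscan := List.all_eq_true.1 near_scan i (List.mem_range.2 hi)
  simp only [nearOk, List.all_eq_true] at hscan
  rw [← hti, show t + 160 + 1296 = t + 1456 by ring] at hscan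
  have hok := hscan b (mem_divList hb (by omega) (by omega)) a (mem_divsA ha)
  rw [← hsix, add_sub_cancel_right] at hok
  exact candOk_sound hok (by omega) (by omega) (by omega) hk hk' hu hS hS'

/-- The defect of the square root is small when the shifted parameter is large. -/
theorem defect_bound {t n k' S' : ℤ} (hbig : 1500 ≤ |t + 160|) (hk' : (t + 160) * k' = 219024 * (n + 1))
    (hS' : S' * S' = n * n + 676 * (n + 1) + 4 * k') (hsign : 0 ≤ S' * (n + 338))
    (hd : (8 : ℤ) ∣ S' - (n + 338)) : |S' - (n + 338)| ≤ 928 := by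
  by_contra hc
  obtain ⟨q, hq⟩ := hd
  have hf : 936 ≤ |S' - (n + 338)| := by
    rw [hq, abs_mul] at hc ⊢
    norm_num at hc ⊢
    omega
  have hT : |S' + (n + 338)| = |S'| + |n + 338| := by
    apply (abs_add_eq_add_abs_iff _ _).2
    rcases lt_trichotomy (n + 338) 0 with g | g | g
    · exact Or.inr ⟨by nlinarith, g.le⟩
    · rcases le_total 0 S' with g' | g'
      · exact Or.inl ⟨g', g.ge⟩
      · exact Or.inr ⟨g', g.le⟩
    · exact Or.inl ⟨by nlinarith, g.le⟩
  have hprod : |S' - (n + 338)| * |S' + (n + 338)| ≤ 4 * |k'| + 113568 := by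
    rw [← abs_mul, show (S' - (n + 338)) * (S' + (n + 338)) = 4 * k' - 113568 by linear_combination hS']
    refine (abs_sub _ _).trans ?_
    rw [abs_mul]
    norm_num
  have hk : |t + 160| * |k'| = 219024 * |n + 1| := by
    rw [← abs_mul, hk', abs_mul]; norm_num
  have h1500 : 1500 * |k'| ≤ 219024 * |n + 1| := by
    rw [← hk]
    exact mul_le_mul_of_nonneg_right hbig (abs_nonneg _)
  have hn1 : |n + 1| ≤ |n + 338| + 337 := by
    have := abs_sub (n + 338) 337
    rw [show n + 338 - 337 = n + 1 by ring] at this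
    simpa using this
  have hTn : |n + 338| ≤ |S' + (n + 338)| := by rw [hT]; linarith [abs_nonneg S']
  have hTf : |S' - (n + 338)| ≤ |S' + (n + 338)| := by rw [hT]; exact abs_sub _ _
  have h936 : 936 * |S' + (n + 338)| ≤ |S' - (n + 338)| * |S' + (n + 338)| :=
    mul_le_mul_of_nonneg_right hf (abs_nonneg _)
  linarith [abs_nonneg (n + 1), abs_nonneg (n + 338), abs_nonneg k']

/-- The number with the small defect. -/
theorem far_case {t n u k k' S S' : ℤ} (ht4 : t % 4 = 2) (hn8 : n % 8 = 6)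
    (hd : (8 : ℤ) ∣ S' - (n + 338)) (hf : |S' - (n + 338)| ≤ 928)
    (hk : t * k = 1061424 * (n + 1)) (hk' : (t + 160) * k' = 219024 * (n + 1))
    (hu : u * n = 351 * (t + 1456)) (hS : S * S = n * n + 2916 * (n + 1) + 4 * k)
    (hS' : S' * S' = n * n + 676 * (n + 1) + 4 * k') : u * (n + 1) = 512487 ∨ u * (n + 1) = 403767 := by
  obtain ⟨hf1, hf2⟩ := abs_le.1 hf
  set f := S' - (n + 338) with hfdef
  obtain ⟨q, hq⟩ := hd
  obtain ⟨i, hi, hfi⟩ : ∃ i : ℕ, i < 233 ∧ f = 8 * (i : ℤ) - 928 := ⟨(q + 116).toNat, by omega, by omega⟩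
  set den := 2 * f * n + (f + 338) * (f + 338) - 676 with hden
  have hfk : f * (f + 2 * (n + 338)) = 4 * k' - 113568 := by rw [hfdef]; linear_combination hS'
  have hfden : (t + 160) * den = 876096 * (n + 1) := by
    rw [hden]; linear_combination (t + 160) * hfk + 4 * hk'
  have hdvd : n ∣ 454896 * ((f + 338) * (f + 338)) := by
    refine ⟨u * den - 351 * 1296 * (2 * f) - 351 * 876096, ?_⟩
    rw [hden] at hfden ⊢
    linear_combination (-(2 * f * n + (f + 338) * (f + 338) - 676)) * hu - 351 * hfden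
  have hg := half_odd (show (f + 338) % 4 = 2 by omega)
  have hnn := half_odd (show n % 4 = 2 by omega)
  have hdvd' : n.natAbs / 2 ∣ 28431 * ((f + 338).natAbs / 2 * ((f + 338).natAbs / 2)) := by
    have h1 := Int.natAbs_dvd_natAbs.2 hdvd
    rw [Int.natAbs_mul, Int.natAbs_mul, hg.1] at h1
    have h2 : n.natAbs / 2 ∣ 2 ^ 6 * (28431 * ((f + 338).natAbs / 2 * ((f + 338).natAbs / 2))) :=
      ((Dvd.intro_left 2 hnn.1.symm).trans h1).trans (dvd_of_eq (by simp; ring))
    have hcop : Nat.Coprime (n.natAbs / 2) (2 ^ 6) := by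
      refine Nat.Coprime.pow_right _ ?_
      rw [Nat.coprime_two_right, Nat.odd_iff]
      exact hnn.2
    exact hcop.dvd_of_dvd_mul_left h2
  obtain ⟨a, b, c, ha, hb, hc, habc⟩ := dvd_eq_mul_mul hdvd'
  have hsix : n = sixed (a * (b * c)) := eq_sixed hn8 (by rw [← habc]; exact hnn.1)
  have hscan := List.all_eq_true.1 far_scan i (List.mem_range.2 hi)
  simp only [farOk, List.all_eq_true] at hscan
  rw [← hfi] at hscan
  have hok := hscan a (mem_divsB ha) b (mem_divList hb (by omega) (by omega)) c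
    (mem_divList hc (by omega) (by omega))
  have hden0 : den ≠ 0 := fun e => by rw [e, mul_zero] at hfden; omega
  rw [← hsix] at hok
  simp only [farCand, ← hden, ← hfden, Int.mul_emod_left, Int.mul_ediv_cancel _ hden0, beq_self_eq_true,
    Bool.not_true, Bool.false_or, add_sub_cancel_right] at hok
  exact candOk_sound hok (by omega) (by omega) (by omega) hk hk' hu hS hS'

/-- The arithmetic of eight rows with a degree one. -/
theorem five_one {h A' B B' Z Z' a a' b b' z z' : ℤ} (hh : Odd h)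
    (ga : Good h (-1) (-1) a) (ga' : Good h (-1) A' a') (gb : Good h (-13) B b) (gb' : Good h (-13) B' b')
    (gz : Good h (-27) Z z) (gz' : Good h (-27) Z' z')
    (c0 : -1 + A' + Z + Z' = 0) (c1 : B + B' + Z + Z' = 0)
    (k0 : a + a' + 27 * (z + z') = 511056) (k1 : 13 * (b + b') + 27 * (z + z') = 56160)
    : h = 512487 ∨ h = 403767 := by
  obtain ⟨-, -, ea⟩ := ga
  obtain ⟨-, ⟨m, hm⟩, ea'⟩ := ga'
  obtain ⟨-, ⟨i, hi⟩, eb⟩ := gb
  obtain ⟨-, ⟨j, hj⟩, eb'⟩ := gb'
  obtain ⟨-, -, ez⟩ := gz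
  obtain ⟨-, -, ez'⟩ := gz'
  set n := A' - 1 with hn
  obtain ⟨t, ht⟩ : ∃ t, z + z' = -13 * t := ⟨-((z + z') / 13), by omega⟩
  have hah : a = h := by linarith
  have hhu : h = -a' * A' := by linarith
  have hbb : b + b' = 4320 + 27 * t := by omega
  have hu : -a' * n = 351 * (t + 1456) := by
    rw [hn]; linear_combination k0 - 27 * ht - hah - hhu
  have hn8 : n % 8 = 6 := by omega
  have ht4 : t % 4 = 2 := by
    obtain ⟨hu', -⟩ := Int.odd_mul.1 (hhu ▸ hh)
    obtain ⟨v, hv⟩ := hu'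
    obtain ⟨w, hw⟩ : ∃ w, n = 8 * w + 6 := ⟨n / 8, by omega⟩
    have : -a' * n = 4 * (4 * v * w + 3 * v + 2 * w + 1) + 2 := by rw [hv, hw]; ring
    omega
  have hZ : Z + Z' = -n := by omega
  have hB : B + B' = n := by omega
  have hpz : t * (Z * Z') = -729 * (A' * (t + 1456)) := by
    refine mul_left_cancel₀ (show (-13 : ℤ) ≠ 0 by norm_num) ?_
    linear_combination Z' * ez + Z * ez' - (Z * Z') * ht + (-27 * h) * hZ + 27 * n * hhu + 27 * A' * hu
  have hpb : (t + 160) * (B * B') = -169 * (A' * (t + 1456)) := by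
    refine mul_left_cancel₀ (show (27 : ℤ) ≠ 0 by norm_num) ?_
    linear_combination B' * eb + B * eb' - (B * B') * hbb + (-13 * h) * hB - 13 * n * hhu - 13 * A' * hu
  obtain ⟨k, hkdef⟩ : ∃ k, k = -(Z * Z') - 729 * A' := ⟨_, rfl⟩
  obtain ⟨k', hkdef'⟩ : ∃ k', k' = -(B * B') - 169 * A' := ⟨_, rfl⟩
  have hA' : A' = n + 1 := by omega
  have hk : t * k = 1061424 * (n + 1) := by rw [hkdef]; linear_combination -hpz + 1061424 * hA'
  have hk' : (t + 160) * k' = 219024 * (n + 1) := by rw [hkdef']; linear_combination -hpb + 219024 * hA'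
  have hS : (Z - Z') * (Z - Z') = n * n + 2916 * (n + 1) + 4 * k := by
    rw [hkdef]; linear_combination (Z + Z' - n) * hZ + 2916 * hA'
  have hS1 : (B - B') * (B - B') = n * n + 676 * (n + 1) + 4 * k' := by
    rw [hkdef']; linear_combination (B + B' + n) * hB + 676 * hA'
  rw [hhu, hA']
  rcases lt_or_ge |t + 160| 1500 with hlt | hge
  · exact near_case ht4 hn8 hlt hk hk' hu hS hS1
  rcases le_total 0 ((B - B') * (n + 338)) with hs | hs
  · have hd : (8 : ℤ) ∣ B - B' - (n + 338) := by omega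
    exact far_case ht4 hn8 hd (defect_bound hge hk' hS1 hs hd) hk hk' hu hS hS1
  · have hd : (8 : ℤ) ∣ -(B - B') - (n + 338) := by omega
    have hS2 : -(B - B') * -(B - B') = n * n + 676 * (n + 1) + 4 * k' := by linear_combination hS1
    exact far_case ht4 hn8 hd (defect_bound hge hk' hS2 (by linarith) hd) hk hk' hu hS hS2

end Cfsg.Lib.Ree.TwentySeven
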