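import Cfsg.Agent.Ree.TwentySeven.Systems

/-!
Of the twelve kinds of blocks only two are consistent with the columns: eight rows and seven rows.
-/

set_option autoImplicit false
set_option maxRecDepth 20000

namespace Cfsg.Lib.Ree.TwentySeven

open Cfsg.Lib.GramSplit

/-- Opposite degrees at equal values have opposite quotients. -/
theorem quot_neg {h w D e D' e' : ℤ} (g : Good h w D e) (g' : Good h w D' e') (hD : D + D' = 0) : e + e' = 0 := by
  obtain rfl : D' = -D := by linarith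
  refine (mul_eq_zero.1 (?_ : (e + e') * D = 0)).resolve_right g.1
  linear_combination g.2.2 - g'.2.2

theorem map_cons {r : Row} {l : List Row} {M : List (Row × ℤ × ℤ)} (hM : M.map Prod.fst = r :: l) :
    ∃ D e M', M = (r, D, e) :: M' ∧ M'.map Prod.fst = l := by
  obtain ⟨⟨r', D, e⟩, M', rfl, rfl, h⟩ := List.map_eq_cons_iff.1 hM
  exact ⟨D, e, M', rfl, h⟩

/-- The degree occurs in the block up to sign. -/
def Occ {ι : Type*} (s : Finset ι) (d : ι → ℤ) (D : ℤ) : Prop := ∃ x ∈ s, |d x| = |D|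

/-- Eight rows: two of each kind `x`, `al`, `be` and two with all three. -/
def Five {ι : Type*} (s : Finset ι) (d : ι → ℤ) (n : ℕ → ι → ℤ) (h : ℤ) : Prop :=
  ∃ A A' B B' C C' Z Z' a a' b b' c c' z z' : ℤ,
    Good h (-1) A a ∧ Good h (-1) A' a' ∧ Good h (-13) B b ∧ Good h (-13) B' b' ∧
    Good h (-13) C c ∧ Good h (-13) C' c' ∧ Good h (-27) Z z ∧ Good h (-27) Z' z' ∧
    A + A' + Z + Z' = 0 ∧ B + B' + Z + Z' = 0 ∧ C + C' + Z + Z' = 0 ∧
    a + a' + 27 * (z + z') = 511056 ∧ 13 * (b + b') + 27 * (z + z') = 56160 ∧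
    13 * (c + c') + 27 * (z + z') = 56160 ∧ Occ s d A ∧ Occ s d A' ∧
    ∀ x ∈ s, d x = 1 → n 0 x = -1 → n 1 x = 0 → n 2 x = 0 → A = -1 ∨ A' = -1

/-- Seven rows, one of each nonzero combination of `x`, `al`, `be`. -/
def Seven {ι : Type*} (s : Finset ι) (d : ι → ℤ) (n : ℕ → ι → ℤ) (h : ℤ) : Prop :=
  ∃ C B W E P R Z c b w e p r z : ℤ,
    Good h (-13) C c ∧ Good h (-13) B b ∧ Good h (-26) W w ∧ Good h (-1) E e ∧
    Good h (-14) P p ∧ Good h (-14) R r ∧ Good h (-27) Z z ∧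
    E + P + R + Z = 0 ∧ B + W + R + Z = 0 ∧ C + W + P + Z = 0 ∧
    e + 14 * p + 14 * r + 27 * z = 511056 ∧ 13 * b + 26 * w + 14 * r + 27 * z = 56160 ∧
    13 * c + 26 * w + 14 * p + 27 * z = 56160 ∧
    ∀ x ∈ s, d x = 1 → n 0 x = -1 → n 1 x = 0 → n 2 x = 0 → E = -1

/-- Every block is of one of the two kinds. -/
theorem Block.kinds {ι : Type*} {s : Finset ι} {n : ℕ → ι → ℤ} {d : ι → ℤ} {h : ℤ} (B : Block s n d h) :
    Five s d n h ∨ Seven s d n h := by
  obtain ⟨M, hM, hgood, hcol, hcnt, hone⟩ := B.list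
  have c0 := hcol 0 (by norm_num); have c1 := hcol 1 (by norm_num); have c2 := hcol 2 (by norm_num)
  have k0 := hcnt 0 (by norm_num); have k1 := hcnt 1 (by norm_num); have k2 := hcnt 2 (by norm_num)
  simp only [fullSols, List.mem_cons, List.not_mem_nil, or_false] at hM
  rcases hM with hM | hM | hM | hM | hM | hM | hM | hM | hM | hM | hM | hM
  all_goals
    obtain ⟨D₁, e₁, M₁, rfl, h₁⟩ := map_cons hM
    obtain ⟨D₂, e₂, M₂, rfl, h₂⟩ := map_cons h₁
    obtain ⟨D₃, e₃, M₃, rfl, h₃⟩ := map_cons h₂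
    obtain ⟨D₄, e₄, M₄, rfl, h₄⟩ := map_cons h₃
    simp only [List.forall_mem_cons, RowGood] at hgood
    obtain ⟨g₁, g₂, g₃, g₄, hrest⟩ := hgood
  case' inr.inr.inl =>
    obtain ⟨D₅, e₅, M₅, rfl, h₅⟩ := map_cons h₄
    obtain ⟨D₆, e₆, M₆, rfl, h₆⟩ := map_cons h₅
    obtain ⟨D₇, e₇, M₇, rfl, h₇⟩ := map_cons h₆
    obtain ⟨D₈, e₈, M₈, rfl, h₈⟩ := map_cons h₇
    obtain rfl := List.map_eq_nil_iff.1 h₈
    simp only [List.forall_mem_cons] at hrest
    obtain ⟨g₅, g₆, g₇, g₈, -⟩ := hrest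
    simp [ent, rowVal, wVal, rhs] at c0 c1 c2 k0 k1 k2
    left
    refine ⟨D₅, D₆, D₃, D₄, D₁, D₂, D₇, D₈, e₅, e₆, e₃, e₄, e₁, e₂, e₇, e₈, g₅.1, g₆.1, g₃.1, g₄.1, g₁.1,
      g₂.1, g₇.1, g₈.1, by linarith, by linarith, by linarith, by linarith, by linarith, by linarith, g₅.2,
      g₆.2, fun x hx hd h0 h1 h2 => ?_⟩
    obtain ⟨p, hp, hp1, hp2⟩ := hone x hx hd h0 h1 h2
    simp only [List.mem_cons, List.not_mem_nil, or_false] at hp
    rcases hp with rfl | rfl | rfl | rfl | rfl | rfl | rfl | rfl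
    all_goals first
      | exact Or.inl hp2
      | exact Or.inr hp2
      | exact absurd hp1 (by simp)
  case' inr.inr.inr.inr.inl =>
    obtain ⟨D₅, e₅, M₅, rfl, h₅⟩ := map_cons h₄
    obtain ⟨D₆, e₆, M₆, rfl, h₆⟩ := map_cons h₅
    obtain ⟨D₇, e₇, M₇, rfl, h₇⟩ := map_cons h₆
    obtain rfl := List.map_eq_nil_iff.1 h₇
    simp only [List.forall_mem_cons] at hrest
    obtain ⟨g₅, g₆, g₇, -⟩ := hrest
    simp [ent, rowVal, wVal, rhs] at c0 c1 c2 k0 k1 k2
    right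
    refine ⟨D₁, D₂, D₃, D₄, D₅, D₆, D₇, e₁, e₂, e₃, e₄, e₅, e₆, e₇, g₁.1, g₂.1, g₃.1, g₄.1, g₅.1, g₆.1,
      g₇.1, by linarith, by linarith, by linarith, by linarith, by linarith, by linarith,
      fun x hx hd h0 h1 h2 => ?_⟩
    obtain ⟨p, hp, hp1, hp2⟩ := hone x hx hd h0 h1 h2
    simp only [List.mem_cons, List.not_mem_nil, or_false] at hp
    rcases hp with rfl | rfl | rfl | rfl | rfl | rfl | rfl
    all_goals first
      | exact hp2
      | exact absurd hp1 (by simp)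
  all_goals exfalso
  all_goals
    try (obtain rfl := List.map_eq_nil_iff.1 h₄
         simp [ent, rowVal, wVal, rhs] at c0 c1 c2 k0 k1 k2
         have := g₁.1.1; have := g₂.1.1; have := g₃.1.1; have := g₄.1.1
         omega)
  all_goals
    obtain ⟨D₅, e₅, M₅, rfl, h₅⟩ := map_cons h₄
    obtain ⟨D₆, e₆, M₆, rfl, h₆⟩ := map_cons h₅
    simp only [List.forall_mem_cons] at hrest
    obtain ⟨g₅, g₆, -⟩ := hrest
    obtain rfl := List.map_eq_nil_iff.1 h₆
    simp [ent, rowVal, wVal, rhs] at c0 c1 c2 k0 k1 k2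
  all_goals
    have := g₁.1.1; have := g₂.1.1; have := g₃.1.1; have := g₄.1.1; have := g₅.1.1; have := g₆.1.1
    first
      | omega
      | (have := quot_neg g₃.1 g₄.1 (by linarith)
         have := quot_neg g₅.1 g₆.1 (by linarith)
         omega)

end Cfsg.Lib.Ree.TwentySeven
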