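import Cfsg.Agent.Ree.TwentySeven.Tools

/-!
The searches for the blocks with seven rows, one of them of degree one.
-/

set_option autoImplicit false
set_option maxRecDepth 20000

namespace Cfsg.Lib.Ree.TwentySeven

/-- The leading coefficient of the quadratic for two equal degrees. -/
def eqN (h m : ℤ) : ℤ :=
  56160 * ((28 - 8 * m) * (8 * m - 27)) + 392 * h * (8 * m - 27) + 729 * h * (28 - 8 * m)

/-- The middle coefficient. -/
def eqM (h m : ℤ) : ℤ := eqN h m * (4 * m - 13) + 507 * h * ((28 - 8 * m) * (8 * m - 27))

/-- The last coefficient. -/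
def eqL (h m : ℤ) : ℤ := 676 * (4 * m - 13) * h * ((28 - 8 * m) * (8 * m - 27))

/-- A candidate for two equal degrees is impossible. -/
def eqOk (m : ℤ) : Bool :=
  !(31941 * (189 - 110 * m) % (m * m) == 0) ||
    (let h := 511056 + 31941 * (189 - 110 * m) / (m * m)
     decide (h ≤ 0) || !isSq (eqM h m * eqM h m - 4 * eqN h m * eqL h m))

theorem eq_scan : (divList 2458 6036849).all (fun k => eqOk (k : ℤ) && eqOk (-(k : ℤ))) = true := by
  decide +kernel

/-- The quartic under the root. -/
def quart (W : ℤ) : ℤ :=
  100 * W * W * W * W + 98680 * W * W * W + 88172016 * W * W + 154554556 * W + 71264089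

/-- The leading coefficient of the quadratic for distinct degrees. -/
def neA (W : ℤ) : ℤ := 10 * W * W + 63713 * W + 61516

/-- The middle coefficient. -/
def neB (W : ℤ) : ℤ := 10 * W * W * W + 123032 * W * W + 120835 * W

/-- The last coefficient. -/
def neC (W : ℤ) : ℤ := 59049 * W * W * (W + 1)

/-- The quadratic. -/
def neF (W Z : ℤ) : ℤ := neA W * Z * Z + neB W * Z + neC W

/-- The quartic is no square at a small value, save one. -/
def quartOk (i : ℕ) : Bool :=
  let W : ℤ := 8 * (i : ℤ) - 50002
  W == -82 || !isSq (quart W)

theorem quart_scan : (List.range 12501).all quartOk = true := by decide +kernel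

/-- The divisors of 15379. -/
def divsC : List ℕ := [1, 7, 13, 91, 169, 1183, 2197, 15379]

theorem mem_divsC {k : ℕ} (h : k ∣ 15379) : k ∈ divsC := by
  have e : (divList 124 15379).all (fun k => divsC.contains k) = true := by decide +kernel
  exact List.contains_iff_mem.1 (List.all_eq_true.1 e k (mem_divList h (by norm_num) (by norm_num)))

/-- No large root over a value in the middle interval. -/
def rootOk (i : ℕ) : Bool :=
  let Z : ℤ := 8 * (i : ℤ) - 6795
  let D := divList 82 Z.natAbs
  divsC.all fun x => D.all fun b => D.all fun c =>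
    let W := sixed (x * (b * c))
    decide (W.natAbs ≤ 50000) || !(neF W Z == 0)

theorem root_scan : (List.range 200).all rootOk = true := by decide +kernel

end Cfsg.Lib.Ree.TwentySeven
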