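import Cfsg.Agent.Ree.TwentySeven.Kinds
import Cfsg.Agent.Ree.TwentySeven.SevenScan

/-!
Blocks with seven rows, none of which can have degree one at `x`.
-/

set_option autoImplicit false
set_option maxRecDepth 20000

namespace Cfsg.Lib.Ree.TwentySeven

/-- Two sign changes of a quadratic with positive leading coefficient enclose all roots. -/
theorem root_between {A B C Z p p' q q' : ℤ} (hA : 0 < A) (h1 : p < p') (h2 : p' ≤ q) (h3 : q < q')
    (s1 : (A * p * p + B * p + C) * (A * p' * p' + B * p' + C) < 0)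
    (s2 : (A * q * q + B * q + C) * (A * q' * q' + B * q' + C) < 0)
    (hZ : A * Z * Z + B * Z + C = 0) : (p < Z ∧ Z < p') ∨ (q < Z ∧ Z < q') := by
  set L : ℤ → ℤ := fun x => A * (x + Z) + B with hL
  have fac : ∀ x, A * x * x + B * x + C = (x - Z) * L x := fun x => by rw [hL]; linear_combination hZ
  have key : ∀ a a', a < a' → (A * a * a + B * a + C) * (A * a' * a' + B * a' + C) < 0 → ¬(a < Z ∧ Z < a') →
      L a < 0 ∧ 0 < L a' := fun a a' haa hs hn => by
    have hlt : L a < L a' := by simp only [hL]; nlinarith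
    have hpos : 0 ≤ (a - Z) * (a' - Z) := by
      rcases le_or_gt Z a with g | g
      · exact mul_nonneg (by linarith) (by linarith)
      · have : a' ≤ Z := by omega
        exact mul_nonneg_of_nonpos_of_nonpos (by linarith) (by linarith)
    have hneg : L a * L a' < 0 := by
      by_contra hc
      have := mul_nonneg hpos (not_lt.1 hc)
      rw [fac, fac] at hs
      linarith [show (a - Z) * L a * ((a' - Z) * L a') = (a - Z) * (a' - Z) * (L a * L a') by ring]
    rcases mul_neg_iff.1 hneg with g | g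
    · linarith [g.1, g.2]
    · exact g
  by_contra hc
  obtain ⟨hc1, hc2⟩ := not_or.1 hc
  obtain ⟨-, e1⟩ := key p p' h1 s1 hc1
  obtain ⟨e2, -⟩ := key q q' h3 s2 hc2
  simp only [hL] at e1 e2
  nlinarith

/-- Two equal degrees are impossible. -/
theorem seven_equal {h P Z W B b w p z : ℤ} (hpos : 0 < h)
    (ep : p * P = h * -14) (ez : z * Z = h * -27) (ew : w * W = h * -26) (eb : b * B = h * -13)
    (hZ8 : (8 : ℤ) ∣ Z - -27) (hP : 2 * P = 1 - Z) (hB : B + W + P + Z = 0)
    (kx : h + 28 * p + 27 * z = 511056) (ka : 13 * b + 26 * w + 14 * p + 27 * z = 56160) : False := by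
  obtain ⟨m, hm⟩ := hZ8
  obtain rfl : Z = 8 * m - 27 := by omega
  have e1 : h * (m * m) = 31941 * (16 * (m * m) - 110 * m + 189) := by
    refine mul_left_cancel₀ (show (64 : ℤ) ≠ 0 by norm_num) ?_
    linear_combination (-(1 - (8 * m - 27)) * (8 * m - 27)) * kx + 28 * (8 * m - 27) * (2 * ep - p * hP)
      + 27 * (1 - (8 * m - 27)) * ez
  have hm0 : m ≠ 0 := by rintro rfl; omega
  have hmm : m * m ≠ 0 := mul_ne_zero hm0 hm0
  have hq : (h - 511056) * (m * m) = 31941 * (189 - 110 * m) := by linear_combination e1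
  have hdvd : m.natAbs ∣ 6036849 := by
    have : m ∣ 6036849 := ⟨(h - 511056) * m + 31941 * 110, by linear_combination -hq⟩
    simpa using Int.natAbs_dvd_natAbs.2 this
  have hscan := List.all_eq_true.1 eq_scan _ (mem_divList hdvd (by norm_num) (by norm_num))
  rw [Bool.and_eq_true] at hscan
  have hok : eqOk m = true := by
    rcases Int.natAbs_eq m with e | e <;> rw [e]
    · exact hscan.1
    · exact hscan.2
  simp only [eqOk, ← hq, Int.mul_emod_left, Int.mul_ediv_cancel _ hmm, beq_self_eq_true, Bool.not_true,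
    Bool.false_or, add_sub_cancel, not_le.2 hpos, decide_false, Bool.not_eq_true'] at hok
  have hBk : B + W + (4 * m - 13) = 0 := by omega
  have hquad : eqN h m * W * W + eqM h m * W + eqL h m = 0 := by
    simp only [eqN, eqM, eqL]
    linear_combination (B * W * ((28 - 8 * m) * (8 * m - 27))) * ka
      - 13 * W * ((28 - 8 * m) * (8 * m - 27)) * eb - 26 * B * ((28 - 8 * m) * (8 * m - 27)) * ew
      - 14 * B * W * (8 * m - 27) * (2 * ep - p * hP) - 27 * B * W * (28 - 8 * m) * ez
      + (676 * h * ((28 - 8 * m) * (8 * m - 27)) + (56160 * ((28 - 8 * m) * (8 * m - 27))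
        + 392 * h * (8 * m - 27) + 729 * h * (28 - 8 * m)) * W) * hBk
  rw [isSq_of_eq (t := 2 * eqN h m * W + eqM h m) (by linear_combination 4 * eqN h m * hquad)] at hok
  exact Bool.noConfusion hok

/-- The two parts of the count for distinct degrees give a quadratic in the degree of the last row. -/
theorem seven_quad {h P R Z W B C c b w p r z : ℤ} (hpos : 0 < h)
    (ep : p * P = h * -14) (er : r * R = h * -14) (ez : z * Z = h * -27) (ew : w * W = h * -26)
    (eb : b * B = h * -13) (ec : c * C = h * -13)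
    (cB : B + W + R + Z = 0) (cC : C + W + P + Z = 0) (cPR : P + R = 1 - Z)
    (hK : 196 * ((W + 1) * (W + Z)) + 27 * (P * R) = 0)
    (kx : h + 14 * p + 14 * r + 27 * z = 511056)
    (k1 : 13 * b + 26 * w + 14 * r + 27 * z = 56160) (k2 : 13 * c + 26 * w + 14 * p + 27 * z = 56160) :
    neF W Z = 0 := by
  set K := (W + 1) * (W + Z) with hKdef
  have hBC : B * C = (W + Z) * (W + Z) + (W + Z) * (1 - Z) + P * R := by
    linear_combination C * cB - (W + Z + R) * cC + (W + Z) * cPR
  have hKBC : 27 * (B * C) = -169 * K := by rw [hBC, hKdef]; linear_combination hK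
  have hS : 14 * (K * (p + r)) = 27 * h * (1 - Z) := by
    refine mul_left_cancel₀ (show (14 : ℤ) ≠ 0 by norm_num) ?_
    linear_combination (p + r) * hK - 27 * R * ep - 27 * P * er + 378 * h * cPR
  have hT : 13 * (K * (b + c)) = 27 * h * (B + C) := by
    refine mul_left_cancel₀ (show (13 : ℤ) ≠ 0 by norm_num) ?_
    linear_combination (b + c) * hKBC - 27 * C * eb - 27 * B * ec - (0 : ℤ) * cPR
  have hX : h * (W * Z * K + 27 * (1 - Z) * W * Z - 729 * W * K) = 511056 * (W * Z * K) := by
    linear_combination (W * Z * K) * kx - W * Z * hS - 27 * W * K * ez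
  have hY : h * (27 * (B + C) * W * Z - 1352 * K * Z + 27 * (1 - Z) * W * Z - 1458 * W * K)
      = 112320 * (W * Z * K) := by
    linear_combination (W * Z * K) * (k1 + k2) - W * Z * hT - W * Z * hS - 52 * Z * K * ew - 54 * W * K * ez
  have hBC' : B + C = -(2 * W + Z + 1) := by omega
  have hh : h * (2 * neF W Z) = 0 := by
    simp only [neF, neA, neB, neC]
    rw [hBC'] at hY
    rw [hKdef] at hX hY
    linear_combination 20 * hX - 91 * hY
  have := (mul_eq_zero.1 hh).resolve_left hpos.ne'
  linarith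

/-- The quadratic has no admissible root. -/
theorem no_root {W Z : ℤ} (hW : W % 8 = 6) (hZ : Z % 8 = 5) (hf : neF W Z = 0) : False := by
  have hW0 : W ≠ 0 := by omega
  have hdisc : (2 * neA W * Z + neB W) * (2 * neA W * Z + neB W) = W * W * quart W := by
    simp only [neF, neA, neB, neC] at hf ⊢
    simp only [quart]
    linear_combination 4 * (10 * W * W + 63713 * W + 61516) * hf
  by_cases hsmall : W.natAbs ≤ 50000
  · obtain ⟨i, hi, hWi⟩ : ∃ i : ℕ, i < 12501 ∧ W = 8 * (i : ℤ) - 50002 :=
      ⟨((W + 50002) / 8).toNat, by omega, by omega⟩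
    have hok := List.all_eq_true.1 quart_scan i (List.mem_range.2 hi)
    simp only [quartOk, ← hWi, Bool.or_eq_true, beq_iff_eq, Bool.not_eq_true'] at hok
    rcases hok with rfl | hok
    · simp only [quart, neA, neB] at hdisc
      norm_num at hdisc
      rcases mul_self_eq_mul_self_iff.1 (hdisc.trans (show _ = (82 * 728271 : ℤ) * (82 * 728271) by norm_num))
        with e | e <;> omega
    · obtain ⟨t, ht⟩ : W ∣ 2 * neA W * Z + neB W := by
        rw [← Int.pow_dvd_pow_iff (n := 2) two_ne_zero, sq, sq]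
        exact ⟨quart W, hdisc⟩
      have : t * t = quart W := by
        refine mul_left_cancel₀ (mul_ne_zero hW0 hW0) ?_
        rw [← hdisc, ht]; ring
      rw [isSq_of_eq this] at hok
      exact Bool.noConfusion hok
  have hA : 0 < neA W := by
    simp only [neA]
    rcases le_or_gt 50000 W with g | g
    · nlinarith
    · nlinarith [show W ≤ -50001 by omega]
  have hroot : (-W - 28 < Z ∧ Z < -W - 26) ∨ (-6800 < Z ∧ Z < -5200) := by
    rcases le_or_gt 50001 W with g | g
    · refine root_between hA (by omega) (by omega) (by omega) ?_ ?_ hf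
      · simp only [neA, neB, neC]
        refine mul_neg_of_pos_of_neg ?_ ?_ <;> nlinarith [mul_nonneg (sq_nonneg W) (show (0 : ℤ) ≤ W - 50000 by omega)]
      · simp only [neA, neB, neC]
        refine mul_neg_of_neg_of_pos ?_ ?_ <;> nlinarith [mul_nonneg (sq_nonneg W) (show (0 : ℤ) ≤ W - 50000 by omega)]
    · have g' : W ≤ -50001 := by omega
      refine (root_between (p := -6800) (p' := -5200) (q := -W - 28) (q' := -W - 26) hA (by omega) (by omega)
        (by omega) ?_ ?_ hf).symm
      · simp only [neA, neB, neC]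
        refine mul_neg_of_pos_of_neg ?_ ?_ <;> nlinarith [mul_nonneg (sq_nonneg W) (show (0 : ℤ) ≤ -W - 50000 by omega)]
      · simp only [neA, neB, neC]
        refine mul_neg_of_neg_of_pos ?_ ?_ <;> nlinarith [mul_nonneg (sq_nonneg W) (show (0 : ℤ) ≤ -W - 50000 by omega)]
  rcases hroot with hr | hr
  · omega
  obtain ⟨i, hi, hZi⟩ : ∃ i : ℕ, i < 200 ∧ Z = 8 * (i : ℤ) - 6795 := ⟨((Z + 6795) / 8).toNat, by omega, by omega⟩
  have hWd : W ∣ 61516 * (Z * Z) := by
    refine ⟨-((10 * W + 63713) * (Z * Z) + (10 * W * W + 123032 * W + 120835) * Z + 59049 * W * (W + 1)), ?_⟩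
    simp only [neF, neA, neB, neC] at hf
    linear_combination hf
  have hWh := half_odd (show W % 4 = 2 by omega)
  have hdvd : W.natAbs / 2 ∣ 15379 * (Z.natAbs * Z.natAbs) := by
    have h1 := Int.natAbs_dvd_natAbs.2 hWd
    rw [Int.natAbs_mul, Int.natAbs_mul] at h1
    have h2 : W.natAbs / 2 ∣ 2 ^ 2 * (15379 * (Z.natAbs * Z.natAbs)) :=
      ((Dvd.intro_left 2 hWh.1.symm).trans h1).trans (dvd_of_eq (by simp; ring))
    refine (Nat.Coprime.pow_right 2 ?_).dvd_of_dvd_mul_left h2
    rw [Nat.coprime_two_right, Nat.odd_iff]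
    exact hWh.2
  obtain ⟨x, b, c, hx, hb, hc, hxbc⟩ := dvd_eq_mul_mul hdvd
  have hsix : W = sixed (x * (b * c)) := eq_sixed hW (by rw [← hxbc]; exact hWh.1)
  have hok := List.all_eq_true.1 root_scan i (List.mem_range.2 hi)
  simp only [rootOk, List.all_eq_true] at hok
  rw [← hZi] at hok
  have h' := hok x (mem_divsC hx) b (mem_divList hb (by omega) (by omega)) c (mem_divList hc (by omega) (by omega))
  rw [← hsix] at h'
  simp [hf, hsmall] at h'

/-- Seven rows with a degree one at `x` are impossible. -/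
theorem seven_one {h P R Z W B C c b w p r z e : ℤ} (hpos : 0 < h)
    (ge : Good h (-1) (-1) e) (gc : Good h (-13) C c) (gb : Good h (-13) B b) (gw : Good h (-26) W w)
    (gp : Good h (-14) P p) (gr : Good h (-14) R r) (gz : Good h (-27) Z z)
    (c0 : -1 + P + R + Z = 0) (cB : B + W + R + Z = 0) (cC : C + W + P + Z = 0)
    (kx : e + 14 * p + 14 * r + 27 * z = 511056)
    (k1 : 13 * b + 26 * w + 14 * r + 27 * z = 56160) (k2 : 13 * c + 26 * w + 14 * p + 27 * z = 56160) :
    False := by
  rw [show e = h by linarith [ge.2.2]] at kx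
  obtain ⟨hB0, -, eb⟩ := gb
  obtain ⟨hC0, -, ec⟩ := gc
  obtain ⟨-, hW8, ew⟩ := gw
  obtain ⟨hP0, -, ep⟩ := gp
  obtain ⟨hR0, -, er⟩ := gr
  obtain ⟨-, hZ8, ez⟩ := gz
  by_cases hPR : P = R
  · subst hPR
    obtain rfl : p = r := mul_right_cancel₀ hP0 (ep.trans er.symm)
    exact seven_equal hpos ep ez ew eb hZ8 (by omega) (by linarith) (by linarith) k1
  have hstar : 196 * (B * C) = 169 * (P * R) := by
    have h0 : h * (P - R) * (196 * (B * C) - 169 * (P * R)) = 0 := by
      linear_combination -(P * R * B * C) * (k1 - k2) + 13 * P * R * C * eb - 13 * P * R * B * ec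
        + 14 * P * B * C * er - 14 * R * B * C * ep + 169 * h * P * R * (cB - cC)
    have hne : h * (P - R) ≠ 0 := mul_ne_zero hpos.ne' (sub_ne_zero.2 hPR)
    linarith [(mul_eq_zero.1 h0).resolve_left hne]
  have hK : 196 * ((W + 1) * (W + Z)) + 27 * (P * R) = 0 := by
    linear_combination hstar - 196 * (C * cB - (W + Z + R) * cC) - 196 * (W + Z) * c0
  exact no_root (by omega) (by omega)
    (seven_quad hpos ep er ez ew eb ec cB cC (by omega) hK kx k1 k2)

end Cfsg.Lib.Ree.TwentySeven
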