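import Cfsg.Agent.Ree.TwentySeven.Tools

/-!
The searches for the blocks over the two values of the common factor that are left.
-/

set_option autoImplicit false
set_option maxRecDepth 20000

namespace Cfsg.Lib.Ree.TwentySeven

/-- The possible degrees at the value -1 for the common factor 512487. -/
def listAOne : List ℤ :=
  [-1, -9, -57, -81, 111, -513, 703, -729, 999, -4617, 6327, 8991, 56943, 512487]

/-- The possible degrees at the value -14 for the common factor 512487. -/
def listPOne : List ℤ :=
  [2, -6, -14, 18, -38, 42, -54, 74, 114, -126, 162, -222, 266, -342, 378, -486, -518, 666, -798, 1026,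
   -1134, -1406, 1458, 1554, -1998, 2394, -3078, 3402, 4218, -4662, 5994, -7182, 9234, 9842, -10206, -12654,
   13986, -17982, 21546, -27702, -29526, 37962, -41958, 53946, -64638, 88578, -113886, 125874, 193914,
   -265734, 341658, -377622, 797202, -1024974, -2391606, 7174818]

/-- The possible degrees at the value -26 for the common factor 512487. -/
def listWOne : List ℤ :=
  [-2, 6, -18, -26, 38, 54, -74, 78, -114, -162, 222, -234, 342, 486, 494, -666, 702, -962, -1026, 1406,
   -1458, -1482, 1998, -2106, 2886, 3078, -4218, 4446, -5994, 6318, -8658, -9234, 12654, -13338, 17982,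
   18278, -18954, 25974, 27702, -37962, 40014, -53946, -54834, -77922, 113886, -120042, 164502, 233766,
   -341658, 360126, -493506, -701298, 1024974, 1480518, -4441554, 13324662]

/-- The possible degrees at the value -27 for the common factor 512487. -/
def listZOne : List ℤ :=
  [-3, -19, -27, 37, -171, -243, 333, -1539, 2109, -2187, 2997, -13851, 18981, -19683, 26973, -124659,
   170829, 242757, 1537461, 13837149]

/-- The possible degrees at the value -1 for the common factor 403767. -/
def listATwo : List ℤ :=
  [-1, 7, -9, -17, 39, 63, 87, 119, -153, -273, -377, -609, 663, 1071, 1479, 2639, -3393, -4641, -6409,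
   -10353, 23751, 44863, -57681, 403767]

/-- The possible degrees at the value -14 for the common factor 403767. -/
def listPTwo : List ℤ :=
  [2, -6, -14, 18, 26, 34, 42, 58, -78, 98, -102, -126, -174, -182, 234, -238, -294, 306, -406, 442, 522,
   546, 714, 754, 882, 986, 1218, 1274, -1326, -1638, 1666, -2142, -2262, 2842, -2958, -3094, -3654, -3822,
   3978, -4998, -5278, 6786, -6902, -8526, 8874, 9282, 11466, 12818, 14994, 15834, 20706, 21658, 25578,
   -27846, 36946, -38454, -47502, 48314, -62118, -64974, -89726, -110838, 115362, -144942, 194922, 269178,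
   332514, 434826, 628082, -807534, -1884246, 5652738]

/-- The possible degrees at the value -26 for the common factor 403767. -/
def listWTwo : List ℤ :=
  [-2, 6, 14, -18, -26, -34, -42, -58, 78, 102, 126, 174, 182, -234, 238, -306, -338, 406, -442, -522, -546,
   -714, -754, -986, 1014, -1218, 1326, 1638, 2142, 2262, 2366, 2958, -3042, 3094, 3654, -3978, 5278, -5746,
   -6786, 6902, -7098, -8874, -9282, -9802, -12818, -15834, 17238, -20706, 21294, 27846, 29406, 38454, 40222,
   47502, -51714, 62118, 68614, -88218, 89726, -115362, -120666, -166634, -205842, -269178, 361998, 499902,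
   617526, 807534, 1166438, -1499706, -3499314, 10497942]

/-- The possible degrees at the value -27 for the common factor 403767. -/
def listZTwo : List ℤ :=
  [-3, 13, 21, -27, 29, -51, -91, 117, 189, -203, 221, -243, 261, 357, -459, 493, -819, 1053, -1131, -1547,
   1701, -1827, 1989, 2349, 3213, -3451, -4131, 4437, -7371, 7917, -10179, -13923, -16443, 17901, -19227,
   28917, -31059, 39933, 71253, -91611, -125307, 134589, -173043, -279531, 641277, 1211301, -1557387,
   10901709]

/-- The list contains every signed divisor of `h w` congruent to `w`. -/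
def listOk (h w : ℤ) (cap : ℕ) (L : List ℤ) : Bool :=
  decide ((h * w).natAbs < (cap + 1) * (cap + 1)) && !(h * w == 0) &&
    (divList cap (h * w).natAbs).all fun k =>
      (!(((k : ℤ) - w) % 8 == 0) || L.contains (k : ℤ)) && (!((-(k : ℤ) - w) % 8 == 0) || L.contains (-(k : ℤ)))

theorem mem_of_listOk {h w D e : ℤ} {cap : ℕ} {L : List ℤ} (hL : listOk h w cap L = true)
    (h8 : (8 : ℤ) ∣ D - w) (he : e * D = h * w) : D ∈ L := by
  simp only [listOk, Bool.and_eq_true, decide_eq_true_eq, Bool.not_eq_true', beq_eq_false_iff_ne,
    List.all_eq_true] at hL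
  obtain ⟨⟨hcap, h0⟩, hall⟩ := hL
  have hd : D.natAbs ∣ (h * w).natAbs := Int.natAbs_dvd_natAbs.2 ⟨e, by rw [← he]; ring⟩
  obtain ⟨h1, h2⟩ := hall _ (mem_divList hd (Int.natAbs_pos.2 h0) hcap)
  simp only [Bool.or_eq_true, Bool.not_eq_true', beq_eq_false_iff_ne, List.contains_iff_mem] at h1 h2
  rcases Int.natAbs_eq D with e' | e' <;> rw [e'] at h8 ⊢
  · exact h1.resolve_left fun n => n (Int.emod_eq_zero_of_dvd h8)
  · exact h2.resolve_left fun n => n (Int.emod_eq_zero_of_dvd h8)

/-- Whether `D` can be a degree at the value `w`. -/
def degOk (h w D : ℤ) : Bool := !(D == 0) && h * w % D == 0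

/-- Eight rows: the count at `x` forces a degree one. -/
def fiveOk (h : ℤ) (A Z : List ℤ) : Bool :=
  A.all fun a => A.all fun a' => Z.all fun z =>
    let z' := -(a + a' + z)
    !degOk h (-27) z' || !(h * (-1) / a + h * (-1) / a' + 27 * (h * (-27) / z + h * (-27) / z') == 511056) ||
      a == 1 || a == -1 || a' == 1 || a' == -1

/-- Seven rows: the counts are impossible. -/
def sevenOk (h : ℤ) (A P W Z : List ℤ) : Bool :=
  A.all fun a => P.all fun p => Z.all fun z =>
    let r := -(a + p + z)
    !degOk h (-14) r ||
      !(h * (-1) / a + 14 * (h * (-14) / p) + 14 * (h * (-14) / r) + 27 * (h * (-27) / z) == 511056) ||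
      W.all fun w =>
        let b := -(w + r + z)
        let c := -(w + p + z)
        !degOk h (-13) b || !degOk h (-13) c ||
          !(13 * (h * (-13) / b) + 26 * (h * (-26) / w) + 14 * (h * (-14) / r) + 27 * (h * (-27) / z) == 56160) ||
          !(13 * (h * (-13) / c) + 26 * (h * (-26) / w) + 14 * (h * (-14) / p) + 27 * (h * (-27) / z) == 56160)

theorem listAOne_ok : listOk 512487 (-1) 715 listAOne = true := by decide +kernel

theorem listPOne_ok : listOk 512487 (-14) 2678 listPOne = true := by decide +kernel

theorem listWOne_ok : listOk 512487 (-26) 3650 listWOne = true := by decide +kernel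

theorem listZOne_ok : listOk 512487 (-27) 3719 listZOne = true := by decide +kernel

theorem fiveOne_ok : fiveOk 512487 listAOne listZOne = true := by decide +kernel

theorem sevenOne_ok : sevenOk 512487 listAOne listPOne listWOne listZOne = true := by decide +kernel

theorem listATwo_ok : listOk 403767 (-1) 635 listATwo = true := by decide +kernel

theorem listPTwo_ok : listOk 403767 (-14) 2377 listPTwo = true := by decide +kernel

theorem listWTwo_ok : listOk 403767 (-26) 3240 listWTwo = true := by decide +kernel

theorem listZTwo_ok : listOk 403767 (-27) 3301 listZTwo = true := by decide +kernel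

theorem fiveTwo_ok : fiveOk 403767 listATwo listZTwo = true := by decide +kernel

theorem sevenTwo_ok : sevenOk 403767 listATwo listPTwo listWTwo listZTwo = true := by decide +kernel

end Cfsg.Lib.Ree.TwentySeven
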