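import Cfsg.Agent.Ree.TwentySeven.Five
import Cfsg.Agent.Ree.TwentySeven.Seven
import Cfsg.Agent.Ree.TwentySeven.TwistScan

/-!
The arithmetic of part C over the field with 27 elements: a block with a row of degree one at `x` has
common factor 512487 or 403767, and every block with such a factor has a row of degree one.
-/

set_option autoImplicit false
set_option maxRecDepth 20000

namespace Cfsg.Lib.Ree.TwentySeven

variable {ι : Type*} {s : Finset ι} {n : ℕ → ι → ℤ} {d : ι → ℤ} {h : ℤ}

/-- The block with the principal character determines the common factor. -/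
theorem principal (B : Block s n d h) (hpos : 0 < h) (hodd : Odd h) {x : ι} (hx : x ∈ s) (hd : d x = 1)
    (h0 : n 0 x = -1) (h1 : n 1 x = 0) (h2 : n 2 x = 0) : h = 512487 ∨ h = 403767 := by
  rcases B.kinds with K | K
  · obtain ⟨A, A', Y, Y', C, C', Z, Z', a, a', y, y', c, c', z, z', ga, ga', gy, gy', -, -, gz, gz', c0, c1, -,
      k0, k1, -, -, -, hone⟩ := K
    rcases hone x hx hd h0 h1 h2 with rfl | rfl
    · exact five_one hodd ga ga' gy gy' gz gz' c0 c1 k0 k1
    · exact five_one hodd ga' ga gy gy' gz gz' (by linarith) c1 (by linarith) k1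
  · obtain ⟨C, Y, W, E, P, R, Z, c, y, w, e, p, r, z, gc, gy, gw, ge, gp, gr, gz, c0, cB, cC, k0, k1, k2,
      hone⟩ := K
    obtain rfl := hone x hx hd h0 h1 h2
    exact (seven_one hpos ge gc gy gw gp gr gz c0 cB cC k0 k1 k2).elim

theorem degOk_of_good {w D e : ℤ} (g : Good h w D e) : degOk h w D = true ∧ h * w / D = e := by
  obtain ⟨h0, -, he⟩ := g
  refine ⟨?_, by rw [← he, Int.mul_ediv_cancel _ h0]⟩
  simp [degOk, h0, ← he]

theorem five_twisted {A P : List ℤ} {cA cP : ℕ} (hA : listOk h (-1) cA A = true)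
    (hP : listOk h (-27) cP P = true) (hs : fiveOk h A P = true) (K : Five s d n h) : ∃ x ∈ s, |d x| = 1 := by
  obtain ⟨a, a', Y, Y', C, C', Z, Z', e, e', y, y', c, c', z, z', ga, ga', -, -, -, -, gz, gz', c0, -, -,
    k0, -, -, oa, oa', -⟩ := K
  simp only [fiveOk, List.all_eq_true] at hs
  have hz : -(a + a' + Z) = Z' := by omega
  have t := hs a (mem_of_listOk hA ga.2.1 ga.2.2) a' (mem_of_listOk hA ga'.2.1 ga'.2.2) Z
    (mem_of_listOk hP gz.2.1 gz.2.2)
  simp only [hz, (degOk_of_good ga).2, (degOk_of_good ga').2, (degOk_of_good gz).2, degOk_of_good gz', k0,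
    beq_self_eq_true, Bool.not_true, Bool.false_or, Bool.or_eq_true, beq_iff_eq] at t
  obtain ⟨x, hx, ex⟩ := oa
  obtain ⟨x', hx', ex'⟩ := oa'
  rcases t with ((t | t) | t) | t
  · exact ⟨x, hx, by rw [ex, t]; rfl⟩
  · exact ⟨x, hx, by rw [ex, t]; rfl⟩
  · exact ⟨x', hx', by rw [ex', t]; rfl⟩
  · exact ⟨x', hx', by rw [ex', t]; rfl⟩

theorem seven_twisted {A P W Z : List ℤ} {cA cP cW cZ : ℕ} (hA : listOk h (-1) cA A = true)
    (hP : listOk h (-14) cP P = true) (hW : listOk h (-26) cW W = true) (hZ : listOk h (-27) cZ Z = true)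
    (hs : sevenOk h A P W Z = true) (K : Seven s d n h) : False := by
  obtain ⟨C, Y, V, E, Q, R, T, c, y, v, e, q, r, t, gc, gy, gv, ge, gq, gr, gt, c0, cB, cC, k0, k1, k2, -⟩ := K
  simp only [sevenOk, List.all_eq_true, Bool.or_eq_true] at hs
  have hr : -(E + Q + T) = R := by omega
  rcases hs E (mem_of_listOk hA ge.2.1 ge.2.2) Q (mem_of_listOk hP gq.2.1 gq.2.2) T
    (mem_of_listOk hZ gt.2.1 gt.2.2) with u | u
  · simp only [hr, (degOk_of_good ge).2, (degOk_of_good gq).2, (degOk_of_good gt).2, degOk_of_good gr, k0,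
      beq_self_eq_true, Bool.not_true, Bool.false_eq_true, or_self] at u
  · have u' := u V (mem_of_listOk hW gv.2.1 gv.2.2)
    simp only [hr, show -(V + R + T) = Y by omega, show -(V + Q + T) = C by omega, degOk_of_good gy,
      degOk_of_good gc, (degOk_of_good gv).2, (degOk_of_good gq).2, (degOk_of_good gr).2, (degOk_of_good gt).2,
      k1, k2, beq_self_eq_true, Bool.not_true, Bool.false_eq_true, or_self] at u'

/-- A block at one of the two values has a character of degree one. -/
theorem twisted (B : Block s n d h) (hh : h = 512487 ∨ h = 403767) : ∃ x ∈ s, |d x| = 1 := by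
  rcases hh with rfl | rfl <;> rcases B.kinds with K | K
  · exact five_twisted listAOne_ok listZOne_ok fiveOne_ok K
  · exact (seven_twisted listAOne_ok listPOne_ok listWOne_ok listZOne_ok sevenOne_ok K).elim
  · exact five_twisted listATwo_ok listZTwo_ok fiveTwo_ok K
  · exact (seven_twisted listATwo_ok listPTwo_ok listWTwo_ok listZTwo_ok sevenTwo_ok K).elim

end Cfsg.Lib.Ree.TwentySeven
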