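import Cfsg.Agent.LocalThree.GramSplit

/-!
The rows of a block over the field with 27 elements: all ways of writing the scalar products of `x`, `al`, `be`
as a sum of squares, and the passage to signed degrees.
-/

set_option autoImplicit false
set_option maxRecDepth 20000

namespace Cfsg.Lib.Ree.TwentySeven

open Cfsg.Lib.GramSplit

/-- The scalar products. -/
def gramFull : Mat := [[4,2,2],[2,4,2],[2,2,4]]

/-- The decompositions. -/
def fullSols : List (List Row) :=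
  [[[0,0,1],[0,0,1],[1,0,0],[1,0,0],[1,0,1],[1,2,1]],
   [[0,1,0],[0,1,0],[1,0,0],[1,0,0],[1,1,0],[1,1,2]],
   [[0,0,1],[0,0,1],[0,1,0],[0,1,0],[1,0,0],[1,0,0],[1,1,1],[1,1,1]],
   [[0,1,-1],[0,1,1],[1,0,0],[1,0,0],[1,1,1],[1,1,1]],
   [[0,0,1],[0,1,0],[0,1,1],[1,0,0],[1,0,1],[1,1,0],[1,1,1]],
   [[1,0,-1],[1,0,1],[1,0,1],[1,2,1]],
   [[0,1,1],[0,1,1],[1,0,1],[1,0,1],[1,1,0],[1,1,0]],
   [[0,1,0],[0,1,0],[1,0,-1],[1,0,1],[1,1,1],[1,1,1]],
   [[1,-1,0],[1,1,0],[1,1,0],[1,1,2]],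
   [[0,0,1],[0,0,1],[1,-1,0],[1,1,0],[1,1,1],[1,1,1]],
   [[0,0,1],[0,0,1],[0,1,0],[0,1,0],[0,1,1],[2,1,1]],
   [[0,1,-1],[0,1,1],[0,1,1],[2,1,1]]]

/-- The search tree. -/
def fullCert : Cert :=
  (.branch [1, 0, 0] (.branch [1, 0, 0] (.branch [1, 0, 0] (.bad [-3, 1, 1]) (.branch [1, 0, 1] (.branch [1, 2,
    1] (.branch [0, 0, 1] (.branch [0, 0, 1] .done (.last 2 [])) (.last 2 [])) (.last 0 [])) (.branch [1, 1, 0]
    (.branch [1, 1, 2] (.branch [0, 1, 0] (.branch [0, 1, 0] .done (.last 1 [])) (.last 1 [])) (.last 0 []))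
    (.branch [1, 1, 1] (.branch [1, 1, 1] (.branch [0, 1, 0] (.branch [0, 1, 0] (.branch [0, 0, 1] (.branch [0,
    0, 1] .done (.last 2 [])) (.last 2 [])) (.last 1 [])) (.branch [0, 1, 1] (.branch [0, 1, -1] .done (.last 1
    [])) (.branch [0, 1, -1] (.last 1 []) (.last 1 [])))) (.last 0 [])) (.branch [1, 1, 2] (.last 0 []) (.branch
    [1, 2, 1] (.last 0 []) (.last 0 []))))))) (.branch [1, 0, 1] (.branch [1, 0, 1] (.bad [-3, 1, -1]) (.branch
    [1, 1, 0] (.branch [1, 1, 1] (.branch [0, 1, 0] (.branch [0, 1, 1] (.branch [0, 0, 1] .done (.last 2 []))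
    (.last 1 [])) (.branch [0, 1, 1] (.last 1 []) (.last 1 []))) (.last 0 [])) (.branch [1, 1, 1] (.last 0 [])
    (.branch [1, 2, 1] (.last 0 []) (.last 0 []))))) (.branch [1, 1, 0] (.branch [1, 1, 0] (.bad [-3, -3, 2])
    (.branch [1, 1, 1] (.last 0 []) (.branch [1, 1, 2] (.last 0 []) (.last 0 [])))) (.branch [1, 1, 1] (.branch
    [1, 1, 1] (.last 0 []) (.last 0 [])) (.branch [1, 1, 2] (.last 0 []) (.branch [1, 2, 1] (.last 0 []) (.last
    0 []))))))) (.branch [1, 0, 1] (.branch [1, 0, 1] (.branch [1, 0, 1] (.bad [-3, 1, -3]) (.branch [1, 0, -1]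
    (.branch [1, 2, 1] .done (.last 0 [])) (.branch [1, 1, 0] (.branch [1, 1, 0] (.branch [0, 1, 1] (.branch [0,
    1, 1] .done (.last 1 [])) (.last 1 [])) (.last 0 [])) (.branch [1, 1, 1] (.bad [-3, 1, -3]) (.branch [1, 2,
    1] (.last 0 []) (.last 0 [])))))) (.branch [1, 0, -1] (.branch [1, 1, 1] (.branch [1, 1, 1] (.branch [0, 1,
    0] (.branch [0, 1, 0] .done (.last 1 [])) (.last 1 [])) (.last 0 [])) (.branch [1, 2, 1] (.last 0 []) (.last
    0 []))) (.branch [1, 1, 0] (.branch [1, 1, 0] (.last 0 []) (.branch [1, 1, 1] (.last 0 []) (.last 0 [])))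
    (.branch [1, 1, 1] (.branch [1, 1, 1] (.last 0 []) (.last 0 [])) (.branch [1, 2, 1] (.last 0 []) (.last 0
    [])))))) (.branch [1, 0, -1] (.branch [1, 1, 1] (.branch [1, 1, 1] (.last 0 []) (.last 0 [])) (.branch [1,
    2, 1] (.last 0 []) (.last 0 []))) (.branch [1, 1, 0] (.branch [1, 1, 0] (.branch [1, 1, 0] (.bad [-3, -3,
    1]) (.branch [1, 1, 1] (.bad [-3, -3, 1]) (.branch [1, 1, 2] (.branch [1, -1, 0] .done (.last 0 []))
    (.branch [1, -1, 0] (.last 0 []) (.last 0 []))))) (.branch [1, 1, 1] (.branch [1, 1, 1] (.branch [1, -1, 0]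
    (.branch [0, 0, 1] (.branch [0, 0, 1] .done (.last 2 [])) (.last 2 [])) (.last 0 [])) (.branch [1, -1, 0]
    (.last 0 []) (.last 0 []))) (.branch [1, 1, 2] (.branch [1, -1, 0] (.last 0 []) (.last 0 [])) (.branch [1,
    -1, 0] (.last 0 []) (.last 0 []))))) (.branch [1, 1, 1] (.branch [1, 1, 1] (.branch [1, 1, 1] (.bad [-3, -3,
    -3]) (.branch [1, 1, -1] (.bad [-3, -3, 1]) (.branch [1, -1, 0] (.last 0 []) (.branch [1, -1, 1] (.bad [-3,
    1, -3]) (.branch [1, -1, -1] (.bad [-3, 1, 1]) (.last 0 [])))))) (.branch [1, 1, -1] (.bad [-3, -3, 2])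
    (.branch [1, -1, 0] (.last 0 []) (.branch [1, -1, 1] (.bad [-3, 2, -3]) (.branch [1, -1, -1] (.bad [-3, 1,
    1]) (.last 0 [])))))) (.branch [1, 1, -1] (.bad [-3, -3, 3]) (.branch [1, 1, 2] (.branch [1, -1, 0] (.last 0
    []) (.last 0 [])) (.branch [1, -1, 0] (.last 0 []) (.branch [1, -1, 1] (.bad [-3, 3, -3]) (.branch [1, -1,
    -1] (.bad [-3, 1, 1]) (.branch [1, 2, 1] (.last 0 []) (.branch [2, 1, 1] (.branch [0, 1, 0] (.branch [0, 1,
    0] (.branch [0, 1, 1] (.branch [0, 0, 1] (.branch [0, 0, 1] .done (.last 2 [])) (.last 2 [])) (.last 1 []))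
    (.branch [0, 1, 1] (.last 1 []) (.last 1 []))) (.branch [0, 1, 1] (.branch [0, 1, 1] (.branch [0, 1, -1]
    .done (.last 1 [])) (.branch [0, 1, -1] (.last 1 []) (.last 1 []))) (.branch [0, 1, -1] (.last 1 []) (.last
    1 [])))) (.last 0 [])))))))))))))

theorem fullCert_ok : check 3 fullSols [] fullCert gramFull [] [] = true := by decide +kernel

/-- The value at the involution. -/
def wVal (a b c : ℤ) : ℤ := -a - 13 * (b + c)

/-- The right sides of the three counts. -/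
def rhs (a : ℕ) : ℤ := if a = 0 then -511056 else -56160

/-- A signed degree `D` and the quotient `e = h w / D`. -/
def Good (h w D e : ℤ) : Prop := D ≠ 0 ∧ (8 : ℤ) ∣ D - w ∧ e * D = h * w

/-- A block: coordinates, degrees, columns, congruences, divisibility and counts. -/
structure Block {ι : Type*} (s : Finset ι) (n : ℕ → ι → ℤ) (d : ι → ℤ) (h : ℤ) : Prop where
  gram : ∀ a < 3, ∀ b < 3, ∑ x ∈ s, n a x * n b x = if a = b then 4 else 2
  ne : ∀ x ∈ s, d x ≠ 0
  col : ∀ a < 3, ∑ x ∈ s, n a x * d x = 0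
  congr : ∀ x ∈ s, (8 : ℤ) ∣ d x - wVal (n 0 x) (n 1 x) (n 2 x)
  dvd : ∀ x ∈ s, d x ∣ h * wVal (n 0 x) (n 1 x) (n 2 x)
  count : ∀ a < 3, (h : ℚ) * ∑ x ∈ s, (n a x : ℚ) * (wVal (n 0 x) (n 1 x) (n 2 x) : ℚ) ^ 2 / (d x : ℚ) = (rhs a : ℚ)

/-- The value at the involution of a row. -/
def rowVal (r : Row) : ℤ := wVal (ent r 0) (ent r 1) (ent r 2)

/-- What is known about a row with its signed degree and quotient. -/
def RowGood {ι : Type*} (s : Finset ι) (d : ι → ℤ) (h : ℤ) (p : Row × ℤ × ℤ) : Prop :=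
  Good h (rowVal p.1) p.2.1 p.2.2 ∧ ∃ x ∈ s, |d x| = |p.2.1|

/-- The block as a list of rows with signed degrees. -/
theorem Block.list {ι : Type*} {s : Finset ι} {n : ℕ → ι → ℤ} {d : ι → ℤ} {h : ℤ} (B : Block s n d h) :
    ∃ M : List (Row × ℤ × ℤ), M.map Prod.fst ∈ fullSols ∧ (∀ p ∈ M, RowGood s d h p) ∧
      (∀ a < 3, (M.map fun p => ent p.1 a * p.2.1).sum = 0) ∧
      (∀ a < 3, (M.map fun p => ent p.1 a * (rowVal p.1 * p.2.2)).sum = rhs a) ∧
      ∀ x ∈ s, d x = 1 → n 0 x = -1 → n 1 x = 0 → n 2 x = 0 →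
        ∃ p ∈ M, p.1 = [1, 0, 0] ∧ p.2.1 = -1 := by
  classical
  have hg : ∀ a < 3, ∀ b < 3, GramSplit.get gramFull a b = ∑ x ∈ s, n a x * n b x := by
    intro a ha b hb
    rw [B.gram a ha b hb]
    interval_cases a <;> interval_cases b <;> rfl
  obtain ⟨L, hnd, hLs, hrest, l, hl, hp⟩ := sound fullSols n (kn := []) (by simp) fullCert gramFull [] []
    fullCert_ok s hg (fun x _ => List.not_mem_nil)
  obtain ⟨L', hL', hmap⟩ := exists_perm_map (fun x => nrm (GramSplit.col 3 n x)) (by simpa using hp)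
  set σ : ι → ℤ := fun x => if nrm (GramSplit.col 3 n x) = GramSplit.col 3 n x then 1 else -1 with hσ
  have σ_sq : ∀ x, σ x * σ x = 1 := fun x => by simp only [hσ]; split_ifs <;> rfl
  have hent : ∀ x, ∀ a < 3, ent (nrm (GramSplit.col 3 n x)) a = σ x * n a x := by
    intro x a ha
    simp only [hσ]
    split_ifs with he
    · rw [he, ent_col ha, one_mul]
    · rw [(nrm_sign _).resolve_left he]
      simp [ent, GramSplit.col, List.getD_eq_getElem?_getD, ha]
  have hval : ∀ x, rowVal (nrm (GramSplit.col 3 n x)) = σ x * wVal (n 0 x) (n 1 x) (n 2 x) := fun x => by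
    simp only [rowVal, wVal, hent x 0 (by norm_num), hent x 1 (by norm_num), hent x 2 (by norm_num)]
    ring
  choose e he using fun x => fun hx : x ∈ s => B.dvd x hx
  set E : ι → ℤ := fun x => if hx : x ∈ s then e x hx else 0 with hE
  have hEe : ∀ x ∈ s, E x * d x = h * wVal (n 0 x) (n 1 x) (n 2 x) := fun x hx => by
    rw [he x hx]; simp only [hE, dif_pos hx]; ring
  have hmem : ∀ x, x ∈ L' ↔ x ∈ L := fun x => hL'.mem_iff
  have hnd' : L'.Nodup := hL'.nodup_iff.2 hnd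
  have hsub : L'.toFinset ⊆ s := fun x hx => hLs x ((hmem x).1 (List.mem_toFinset.1 hx))
  have hzero : ∀ x ∈ s, x ∉ L'.toFinset → ∀ a < 3, n a x = 0 := fun x hx hx' =>
    hrest x hx fun m => hx' (List.mem_toFinset.2 ((hmem x).2 m))
  refine ⟨L'.map fun x => (nrm (GramSplit.col 3 n x), σ x * d x, E x), ?_, ?_, ?_, ?_, ?_⟩
  · rw [List.map_map]
    convert hl using 1
    exact hmap
  · intro p hp'
    obtain ⟨x, hx, rfl⟩ := List.mem_map.1 hp'
    have hxs := hLs x ((hmem x).1 hx)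
    refine ⟨⟨mul_ne_zero (left_ne_zero_of_mul_eq_one (σ_sq x)) (B.ne x hxs), ?_, ?_⟩, x, hxs, ?_⟩
    · rw [hval, ← mul_sub]
      exact (B.congr x hxs).mul_left _
    · rw [hval]
      linear_combination (σ x) * hEe x hxs
    · rcases mul_self_eq_one_iff.1 (σ_sq x) with e' | e' <;> rw [e'] <;> simp
  · intro a ha
    rw [List.map_map, List.map_congr_left (g := fun x => n a x * d x) (fun x _ => by
      simp only [Function.comp_apply]; rw [hent x a ha]; linear_combination (n a x * d x) * σ_sq x),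
      ← List.sum_toFinset _ hnd', Finset.sum_subset hsub fun x hx hx' => by rw [hzero x hx hx' a ha, zero_mul]]
    exact B.col a ha
  · intro a ha
    rw [List.map_map, List.map_congr_left (g := fun x => n a x * (wVal (n 0 x) (n 1 x) (n 2 x) * E x))
      (fun x _ => by
        simp only [Function.comp_apply]
        rw [hent x a ha, hval]
        linear_combination (n a x * (wVal (n 0 x) (n 1 x) (n 2 x) * E x)) * σ_sq x),
      ← List.sum_toFinset _ hnd', Finset.sum_subset hsub fun x hx hx' => by rw [hzero x hx hx' a ha, zero_mul]]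
    apply Int.cast_injective (α := ℚ)
    rw [← B.count a ha, Finset.mul_sum, Int.cast_sum]
    refine Finset.sum_congr rfl fun x hx => ?_
    have hd : (d x : ℚ) ≠ 0 := Int.cast_ne_zero.2 (B.ne x hx)
    have h1 : (E x : ℚ) * d x = h * wVal (n 0 x) (n 1 x) (n 2 x) := by exact_mod_cast hEe x hx
    rw [← mul_div_assoc, eq_div_iff hd]
    push_cast
    linear_combination ((n a x : ℚ) * wVal (n 0 x) (n 1 x) (n 2 x)) * h1
  · intro x hx hd h0 h1 h2
    have hc : GramSplit.col 3 n x = [-1, 0, 0] := by simp [GramSplit.col, h0, h1, h2, List.range, List.range.loop]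
    have hxL : x ∈ L' := (hmem x).2 (by_contra fun m => by
      have := hrest x hx m 0 (by norm_num)
      omega)
    refine ⟨_, List.mem_map_of_mem hxL, ?_, ?_⟩
    · show nrm (GramSplit.col 3 n x) = _
      rw [hc]; rfl
    · show σ x * d x = -1
      simp only [hσ]
      rw [hc, hd]
      rfl

end Cfsg.Lib.Ree.TwentySeven
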