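import Mathlib

/-!
Divisor lists and a test for squares, for the arithmetic over the field with 27 elements.
-/

set_option autoImplicit false

namespace Cfsg.Lib.Ree.TwentySeven

/-- The divisors of `m` found below the bound `cap`, with their cofactors. -/
def divList (cap m : ℕ) : List ℕ :=
  ((List.range (cap + 1)).filter fun k => m % k == 0).flatMap fun k => [k, m / k]

theorem mem_divList {cap m k : ℕ} (hk : k ∣ m) (hm : 0 < m) (hcap : m < (cap + 1) * (cap + 1)) :
    k ∈ divList cap m := by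
  simp only [divList, List.mem_flatMap, List.mem_filter, List.mem_range, beq_iff_eq, List.mem_cons,
    List.not_mem_nil, or_false]
  by_cases h : k ≤ cap
  · exact ⟨k, ⟨by omega, Nat.mod_eq_zero_of_dvd hk⟩, Or.inl rfl⟩
  · have hk' : k * (m / k) = m := Nat.mul_div_cancel' hk
    refine ⟨m / k, ⟨?_, Nat.mod_eq_zero_of_dvd (Nat.div_dvd_of_dvd hk)⟩,
      Or.inr (Nat.div_div_self hk hm.ne').symm⟩
    by_contra hc
    have h1 : (cap + 1) * (cap + 1) ≤ k * (m / k) := Nat.mul_le_mul (by omega) (by omega)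
    omega

/-- Whether an integer is a square. -/
def isSq (a : ℤ) : Bool := decide (0 ≤ a) && (a.toNat.sqrt * a.toNat.sqrt == a.toNat)

theorem isSq_of_eq {a t : ℤ} (h : t * t = a) : isSq a = true := by
  subst h
  have e : (t * t).toNat = t.natAbs * t.natAbs := by rw [← Int.natAbs_mul_self, Int.toNat_natCast]
  unfold isSq
  rw [e, Nat.sqrt_eq, decide_eq_true (mul_self_nonneg t)]
  simp

/-- The even number `2 a` or its negative, whichever is congruent to 6 modulo 8. -/
def sixed (a : ℕ) : ℤ := if (2 * (a : ℤ)) % 8 = 6 then 2 * (a : ℤ) else -(2 * (a : ℤ))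

theorem eq_sixed {n : ℤ} {a : ℕ} (h : n % 8 = 6) (ha : n.natAbs = 2 * a) : n = sixed a := by
  unfold sixed
  split_ifs <;> omega

/-- The half of the absolute value, for numbers congruent to 2 modulo 4. -/
theorem half_odd {n : ℤ} (h : n % 4 = 2) : n.natAbs = 2 * (n.natAbs / 2) ∧ n.natAbs / 2 % 2 = 1 := by
  omega

theorem dvd_eq_mul_mul {m a g : ℕ} (h : m ∣ a * (g * g)) :
    ∃ x b c, x ∣ a ∧ b ∣ g ∧ c ∣ g ∧ m = x * (b * c) := by
  obtain ⟨x, y, hx, hy, rfl⟩ := exists_dvd_and_dvd_of_dvd_mul h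
  obtain ⟨b, c, hb, hc, rfl⟩ := exists_dvd_and_dvd_of_dvd_mul hy
  exact ⟨x, b, c, hx, hb, hc, rfl⟩

/-- The whole number up to sign is among the listed ones. -/
theorem natAbs_cases {d : ℤ} {L : List ℕ} (h : d.natAbs ∈ L) : ∃ k ∈ L, d = (k : ℤ) ∨ d = -(k : ℤ) :=
  ⟨_, h, Int.natAbs_eq d⟩

end Cfsg.Lib.Ree.TwentySeven
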